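import Groth.Agent.L09.CohColim.Commutes
import Groth.Prelude.Def_ToposFin2
import Mathlib.CategoryTheory.Abelian.GrothendieckCategory.Basic
import Mathlib.CategoryTheory.Abelian.GrothendieckAxioms.Sheaf
import Mathlib.Algebra.Category.Grp.AB
import Mathlib.CategoryTheory.Sites.ConstantSheaf
import Mathlib.CategoryTheory.Sites.SheafCohomology.Basic

/-!
Consequences: the cohomology functors of coherent objects preserve filtered colimits.
-/

set_option autoImplicit false
set_option linter.style.haveILetI false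
universe u

open CategoryTheory CategoryTheory.Limits Opposite CategoryTheory.Abelian ToposFin Groth.L09.Topos

namespace Groth.L09.CohColim

variable {C : Type u} [SmallCategory C] {J : GrothendieckTopology C}
  {Λ : Type u} [SmallCategory Λ] [IsFiltered Λ]

theorem map_w {A : Sheaf J AddCommGrpCat.{u}} {D : Λ ⥤ Sheaf J AddCommGrpCat.{u}} (c : Cocone D) {j k : Λ}
    (f : j ⟶ k) {n : ℕ} (x : Ext A (D.obj j) n) :
    Emap (c.ι.app k) n (Emap (D.map f) n x) = Emap (c.ι.app j) n x := by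
  rw [← map_comp_apply]
  exact congrArg (fun q => Emap q n x) (c.w f)

/-- A generating class of quasi-compact objects stable under fibre products. -/
structure GoodSet (S : Set (Sh J)) : Prop where
  qc : ∀ K ∈ S, IsQC K
  gen : IsGenerating S
  pb : ClosedUnderPullbacks S

omit [IsFiltered Λ] in
theorem GoodSet.good {S : Set (Sh J)} (hS : GoodSet S) : Good S (allAdm S) where
  qc := hS.qc
  covers h := h
  dec {K ι L π} h n := by
    haveI := h.2.1
    exact dec_TS π hS.pb h.1 h.2.2.1 n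
  refine_epi K hK F g _ := by
    obtain ⟨κ, hκ, W, π, hπ, hW⟩ :=
      exists_gen_refine (genBy_of_isGenerating hS.gen) (covers_of_epi.{u} g) (𝟙 K) (hS.qc K hK)
    refine ⟨κ, W, π, ⟨hK, hκ, fun k => (hW k).1, hπ⟩, fun k => ?_⟩
    obtain ⟨-, -, l, hl⟩ := hW k
    exact ⟨l, hl.trans (Category.comp_id _)⟩

theorem goodSet_coherent (hE : IsAlgebraic J) : GoodSet {K : Sh J | IsCoherent K} := by
  obtain ⟨S, hqc, hgen, hpb, heq⟩ := hE
  refine ⟨fun K hK => hK.1, fun X => ?_, fun K L M f g hK hL hM => ?_⟩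
  · obtain ⟨ι, F, π, hF, hπ⟩ := hgen X
    exact ⟨ι, F, π, fun i => ⟨hqc _ (hF i), isQS_of_mem hqc hgen hpb (hF i)⟩, hπ⟩
  · refine ⟨pullback f g, _, _, ⟨hM.2 _ _ f g hK.1 hL.1, ?_⟩, IsPullback.of_hasPullback f g⟩
    exact isQS_of_isQSHom
      ((qs J).pullback_snd f g (isQSHom_of_isQS_of_algebraic ⟨S, hqc, hgen, hpb, heq⟩ f hK.2)) hL.2

/-- Elementwise commutation gives preservation of colimits. -/
theorem preservesColimitsOfShape_of_commutes (A : Sheaf J AddCommGrpCat.{u}) (n : ℕ)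
    (h : ∀ (D : Λ ⥤ Sheaf J AddCommGrpCat.{u}) (c : Cocone D), IsColimit c → Commutes A n c) :
    PreservesColimitsOfShape Λ ((extFunctor.{u} n).obj (op A) : Sheaf J AddCommGrpCat.{u} ⥤ AddCommGrpCat.{u}) := by
  haveI : ReflectsColimitsOfShape Λ (forget AddCommGrpCat.{u}) :=
    reflectsColimitsOfShape_of_reflectsIsomorphisms
  refine ⟨fun {D} => ⟨fun {c} hc => ⟨isColimitOfReflects (forget AddCommGrpCat.{u})
    (Types.FilteredColimit.isColimitOf _ _ (fun x => ?_) fun i j xi xj he => ?_)⟩⟩⟩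
  · obtain ⟨j, y, rfl⟩ := (h D c hc).1 x
    exact ⟨j, y, rfl⟩
  · obtain ⟨xi, rfl⟩ : ∃ x : Ext A (D.obj i) n, x = xi := ⟨xi, rfl⟩
    obtain ⟨xj, rfl⟩ : ∃ x : Ext A (D.obj j) n, x = xj := ⟨xj, rfl⟩
    let a := IsFiltered.leftToMax i j
    let b := IsFiltered.rightToMax i j
    have h' : Emap (c.ι.app i) n xi = Emap (c.ι.app j) n xj := he
    obtain ⟨k, g, hg⟩ := (h D c hc).2 (IsFiltered.max i j) (Emap (D.map a) n xi - Emap (D.map b) n xj) (by
      rw [map_sub, map_w, map_w]; exact sub_eq_zero.2 h')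
    refine ⟨k, a ≫ g, b ≫ g, ?_⟩
    rw [map_sub, sub_eq_zero, ← map_comp_apply, ← map_comp_apply, ← D.map_comp, ← D.map_comp] at hg
    exact hg

theorem commutes_HK {S : Set (Sh J)} (hS : GoodSet S) {K : Sh J} (hK : K ∈ S) (n : ℕ)
    (D : Λ ⥤ Sheaf J AddCommGrpCat.{u}) (c : Cocone D) (hc : IsColimit c) : Commutes (Z K) n c :=
  commutes hS.good hK n D c hc

theorem Commutes.of_iso {A B : Sheaf J AddCommGrpCat.{u}} (e : A ≅ B) {n : ℕ}
    {D : Λ ⥤ Sheaf J AddCommGrpCat.{u}} {c : Cocone D} (h : Commutes A n c) : Commutes B n c := by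
  let P : ∀ F, Ext B F n → Ext A F n := fun F x => (Ext.mk₀ e.hom).comp x (zero_add n)
  let Q : ∀ F, Ext A F n → Ext B F n := fun F x => (Ext.mk₀ e.inv).comp x (zero_add n)
  have hQP : ∀ F x, Q F (P F x) = x := fun F x => by simp [P, Q]
  have hP : ∀ {F G} (f : F ⟶ G) x, P G (Emap f n x) = Emap f n (P F x) := fun f x => by
    simp only [P, Emap_apply]
    rw [Ext.comp_assoc_of_third_deg_zero]
  refine ⟨fun ξ => ?_, fun j η hη => ?_⟩
  · obtain ⟨j, η, hη⟩ := h.1 (P _ ξ)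
    refine ⟨j, Q _ η, ?_⟩
    rw [← hQP _ ξ, ← hη]
    simp only [Q, Emap_apply]
    rw [Ext.comp_assoc_of_third_deg_zero]
  · obtain ⟨k, f, hf⟩ := h.2 j (P _ η) (by rw [← hP, hη]; simp [P])
    refine ⟨k, f, ?_⟩
    rw [← hQP _ (Emap (D.map f) n η), hP, hf]
    simp [Q]

/-- The free abelian sheaf on a terminal object is the constant sheaf. -/
noncomputable def constIso {T : Sh J} (hT : IsTerminal T) :
    Z T ≅ (constantSheaf J AddCommGrpCat.{u}).obj (AddCommGrpCat.of (ULift.{u} ℤ)) :=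
  (presheafToSheaf J AddCommGrpCat.{u}).mapIso (NatIso.ofComponents (fun V =>
    haveI : Unique (T.obj.obj V) :=
      (Types.isTerminalEquivUnique _ (hT.isTerminalObj (sheafToPresheaf J (Type u) ⋙ (evaluation _ _).obj V)))
    ((FreeAbelianGroup.uniqueEquiv (T.obj.obj V)).trans AddEquiv.ulift.symm).toAddCommGrpIso)
    fun {V W} g => by
      refine AddCommGrpCat.hom_ext (FreeAbelianGroup.lift_ext _ _ fun t => ?_)
      haveI : Unique (T.obj.obj V) :=
        (Types.isTerminalEquivUnique _ (hT.isTerminalObj (sheafToPresheaf J (Type u) ⋙ (evaluation _ _).obj V)))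
      haveI : Unique (T.obj.obj W) :=
        (Types.isTerminalEquivUnique _ (hT.isTerminalObj (sheafToPresheaf J (Type u) ⋙ (evaluation _ _).obj W)))
      show AddEquiv.ulift.symm (FreeAbelianGroup.uniqueEquiv _ (FreeAbelianGroup.map (T.obj.map g) (FreeAbelianGroup.of t))) =
        AddEquiv.ulift.symm (FreeAbelianGroup.uniqueEquiv _ (FreeAbelianGroup.of t))
      rw [FreeAbelianGroup.map_of_apply]
      simp [FreeAbelianGroup.uniqueEquiv])

theorem freeAb_map_mono {U V : Sh J} (f : U ⟶ V) [Mono f] : Mono ((freeAb J).map f) := by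
  haveI : Mono f.hom := inferInstanceAs (Mono ((sheafToPresheaf J (Type u)).map f))
  haveI : Mono (Functor.whiskerRight f.hom AddCommGrpCat.free.{u}) := by
    haveI : ∀ W, Mono ((Functor.whiskerRight f.hom AddCommGrpCat.free.{u}).app W) := fun W =>
      inferInstanceAs (Mono (AddCommGrpCat.free.{u}.map (f.hom.app W)))
    exact NatTrans.mono_of_mono_app _
  exact inferInstanceAs (Mono ((presheafToSheaf J AddCommGrpCat.{u}).map (Functor.whiskerRight f.hom AddCommGrpCat.free.{u})))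

/-- The outer terms of a short exact sequence control the first one. -/
theorem Commutes.of_shortExact {E : ShortComplex (Sheaf J AddCommGrpCat.{u})} (hE : E.ShortExact) {n : ℕ}
    {D : Λ ⥤ Sheaf J AddCommGrpCat.{u}} {c : Cocone D}
    (h₁ : ∀ m, Commutes E.X₁ m c) (h₂ : ∀ m, Commutes E.X₂ m c) : Commutes E.X₃ n c := by
  have pre : ∀ {X Y : Sheaf J AddCommGrpCat.{u}} (a : X ⟶ Y) {F G : Sheaf J AddCommGrpCat.{u}} (f : F ⟶ G) {m : ℕ}
      (x : Ext Y F m), (Ext.mk₀ a).comp (Emap f m x) (zero_add m) = Emap f m ((Ext.mk₀ a).comp x (zero_add m)) :=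
    by intros; exact (Ext.comp_assoc_of_third_deg_zero _ _ _ _).symm
  cases n with
  | zero =>
    haveI := hE.epi_g
    have inj : ∀ {F} (x : Ext E.X₃ F 0), (Ext.mk₀ E.g).comp x (zero_add 0) = 0 → x = 0 := fun x hx => by
      obtain ⟨φ, rfl⟩ := (Ext.mk₀_bijective _ _).2 x
      rw [Ext.mk₀_comp_mk₀] at hx
      have : E.g ≫ φ = E.g ≫ 0 := by
        rw [comp_zero]; exact (Ext.mk₀_bijective _ _).1 (by rw [hx, Ext.mk₀_zero])
      rw [(cancel_epi E.g).1 this, Ext.mk₀_zero]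
    refine ⟨fun ξ => ?_, fun j η hη => ?_⟩
    · obtain ⟨j, y, hy⟩ := (h₂ 0).1 ((Ext.mk₀ E.g).comp ξ (zero_add 0))
      have hz : Emap (c.ι.app j) 0 ((Ext.mk₀ E.f).comp y (zero_add 0)) = 0 := by
        rw [← pre, hy, ← Ext.comp_assoc_of_second_deg_zero, Ext.mk₀_comp_mk₀, E.zero, Ext.mk₀_zero, Ext.zero_comp]
      obtain ⟨k, f, hf⟩ := (h₁ 0).2 j _ hz
      rw [← pre] at hf
      obtain ⟨w, hw⟩ := Ext.contravariant_sequence_exact₂ hE _ (Emap (D.map f) 0 y) hf
      refine ⟨k, w, sub_eq_zero.1 (inj (F := c.pt) _ ?_)⟩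
      rw [sub_eq_add_neg, Ext.comp_add, Ext.comp_neg, pre, hw, map_w, hy, add_neg_cancel]
    · obtain ⟨k, f, hf⟩ := (h₂ 0).2 j ((Ext.mk₀ E.g).comp η (zero_add 0)) (by rw [← pre, hη, Ext.comp_zero])
      exact ⟨k, f, inj _ (by rw [pre, hf])⟩
  | succ n =>
    have hδ : ∀ {F G : Sheaf J AddCommGrpCat.{u}} (f : F ⟶ G) (x : Ext E.X₁ F n),
        Emap f (n + 1) (hE.extClass.comp x (by omega)) = hE.extClass.comp (Emap f n x) (by omega) :=
      fun f x => Ext.comp_assoc_of_third_deg_zero _ _ _ _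
    refine ⟨fun ξ => ?_, fun j η hη => ?_⟩
    · obtain ⟨j, y, hy⟩ := (h₂ (n + 1)).1 ((Ext.mk₀ E.g).comp ξ (zero_add _))
      have hz : Emap (c.ι.app j) (n + 1) ((Ext.mk₀ E.f).comp y (zero_add _)) = 0 := by
        rw [← pre, hy, ← Ext.comp_assoc_of_second_deg_zero, Ext.mk₀_comp_mk₀, E.zero, Ext.mk₀_zero, Ext.zero_comp]
      obtain ⟨k, f, hf⟩ := (h₁ (n + 1)).2 j _ hz
      rw [← pre] at hf
      obtain ⟨w, hw⟩ := Ext.contravariant_sequence_exact₂ hE _ (Emap (D.map f) (n + 1) y) hf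
      have : (Ext.mk₀ E.g).comp (ξ - Emap (G := c.pt) (c.ι.app k) (n + 1) w) (zero_add _) = 0 := by
        rw [sub_eq_add_neg, Ext.comp_add, Ext.comp_neg, pre, hw, map_w, hy, add_neg_cancel]
      obtain ⟨a, ha⟩ := Ext.contravariant_sequence_exact₃ hE _ (ξ - Emap (G := c.pt) (c.ι.app k) (n + 1) w) this
        (show 1 + n = n + 1 by omega)
      obtain ⟨l, a', rfl⟩ := (h₁ n).1 a
      obtain ⟨m, u, v, -⟩ := IsFilteredOrEmpty.cocone_objs k l
      refine ⟨m, Emap (D.map u) (n + 1) w + hE.extClass.comp (Emap (D.map v) n a') (by omega), ?_⟩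
      rw [map_add, hδ, map_w, map_w]
      exact eq_sub_iff_add_eq'.1 ha
    · obtain ⟨k, f, hf⟩ := (h₂ (n + 1)).2 j ((Ext.mk₀ E.g).comp η (zero_add _)) (by rw [← pre, hη, Ext.comp_zero])
      rw [← pre] at hf
      obtain ⟨a, ha⟩ := Ext.contravariant_sequence_exact₃ hE _ _ hf (show 1 + n = n + 1 by omega)
      have ha0 : hE.extClass.comp (Emap (c.ι.app k) n a) (show 1 + n = n + 1 by omega) = 0 := by
        rw [← hδ, ha, map_w]
        exact hη
      obtain ⟨b, hb⟩ := Ext.contravariant_sequence_exact₁ hE _ (Emap (c.ι.app k) n a) (show 1 + n = n + 1 by omega) ha0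
      obtain ⟨l, b', rfl⟩ := (h₂ n).1 b
      obtain ⟨m, u, v, -⟩ := IsFilteredOrEmpty.cocone_objs k l
      have : Emap (c.ι.app m) n (Emap (D.map u) n a - (Ext.mk₀ E.f).comp (Emap (D.map v) n b') (zero_add n)) = 0 := by
        rw [map_sub, ← pre, map_w, map_w]
        exact sub_eq_zero.2 hb.symm
      obtain ⟨r, g, hg⟩ := (h₁ n).2 m _ this
      refine ⟨r, f ≫ u ≫ g, ?_⟩
      rw [map_sub, ← pre, sub_eq_zero] at hg
      rw [D.map_comp, D.map_comp, map_comp_apply, map_comp_apply, ← ha, hδ, hδ, hg,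
        ← Ext.comp_assoc_of_second_deg_zero, ShortComplex.ShortExact.extClass_comp, Ext.zero_comp]

/-- Cohomology with supports. -/
theorem commutes_quotZ {S : Set (Sh J)} (hS : GoodSet S) (hT : (⊤_ (Sh J)) ∈ S) {U : Sh J}
    [Mono (terminal.from U)] (hU : U ∈ S) (n : ℕ) (D : Λ ⥤ Sheaf J AddCommGrpCat.{u}) (c : Cocone D)
    (hc : IsColimit c) : Commutes (quotZ U) n c := by
  haveI := freeAb_map_mono (J := J) (terminal.from U)
  let E := ShortComplex.mk ((freeAb J).map (terminal.from U)) (cokernel.π _) (cokernel.condition _)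
  have hE : E.ShortExact :=
    { exact := ShortComplex.exact_of_g_is_cokernel _ (cokernelIsCokernel _) }
  exact Commutes.of_shortExact hE (fun m => commutes hS.good hU m D c hc) (fun m => commutes hS.good hT m D c hc)

end Groth.L09.CohColim
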