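import Groth.Agent.L09.CohColim.LocalPreserves
import Mathlib.AlgebraicGeometry.Morphisms.QuasiSeparated
import Mathlib.Topology.Sheaves.Functors
import Groth.Prelude.Def_Coh

/-!
Cohomology of abelian sheaves on the opens of a scheme commutes with filtered colimits on qcqs opens.
-/

set_option autoImplicit false
set_option linter.style.haveILetI false
universe u

open CategoryTheory CategoryTheory.Limits Opposite AlgebraicGeometry TopologicalSpace ToposFin Groth.L09.Topos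
open Groth.L10.SiteCoh (fs freeSheafifyIso)

namespace Groth.L09.CohColim

variable {X : Scheme.{u}}

local notation "JX" => Opens.grothendieckTopology X

theorem isQCSite_of_isCompact {U : X.Opens} (hU : IsCompact (U : Set X)) : IsQCSite (Opens.grothendieckTopology X) U := by
  intro S hS
  choose V f hf hx using fun x : (U : Set X) => hS x.1 x.2
  obtain ⟨t, ht⟩ := hU.elim_finite_subcover (fun x => (V x : Set X)) (fun x => (V x).isOpen)
    (fun x hxU => Set.mem_iUnion.2 ⟨⟨x, hxU⟩, hx ⟨x, hxU⟩⟩)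
  let e := Fintype.equivFin t
  refine ⟨Fintype.card t, fun k => V (e.symm k).1, fun k => f (e.symm k).1, fun k => hf _, fun x hxU => ?_⟩
  obtain ⟨i, hi, hxi⟩ := Set.mem_iUnion₂.1 (ht hxU)
  refine ⟨V i, f i, ?_, hxi⟩
  refine (Sieve.mem_ofArrows_iff _ _ _).2 ⟨e ⟨i, hi⟩, homOfLE ?_, Subsingleton.elim _ _⟩
  rw [e.symm_apply_apply]

theorem exists_le_of_hom {U M : X.Opens} (s : eps JX U ⟶ eps JX M) :
    ∃ h : U ≤ M, s = epsMap JX (homOfLE h) := by
  have hm := reprSieve_mem s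
  have h : U ≤ M := fun x hx => by
    obtain ⟨V, f, ⟨v, -⟩, hxV⟩ := hm x hx
    exact v.le hxV
  refine ⟨h, epsEquiv.injective (sep (eps JX M) hm fun V f hf => ?_)⟩
  obtain ⟨v, hv⟩ := hf
  rw [← epsEquiv_map, ← epsEquiv_map, hv, ← epsMap_comp]
  exact congrArg (fun q => epsEquiv (epsMap JX q)) (Subsingleton.elim _ _)

variable (X) in
/-- Sheaves attached to quasi-compact quasi-separated opens. -/
def qcqsSet : Set (Sh JX) :=
  {K | ∃ U : X.Opens, IsCompact (U : Set X) ∧ IsQuasiSeparated (U : Set X) ∧ Nonempty (K ≅ eps JX U)}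

theorem isPullback_inf {U V M : X.Opens} (hU : U ≤ M) (hV : V ≤ M) :
    IsPullback (homOfLE (inf_le_left : U ⊓ V ≤ U)) (homOfLE (inf_le_right : U ⊓ V ≤ V)) (homOfLE hU) (homOfLE hV) :=
  IsPullback.of_isLimit' ⟨Subsingleton.elim _ _⟩ (PullbackCone.IsLimit.mk _
    (fun t => homOfLE (le_inf t.fst.le t.snd.le)) (fun _ => Subsingleton.elim _ _) (fun _ => Subsingleton.elim _ _)
    (fun _ _ _ _ => Subsingleton.elim _ _))

theorem goodSet_qcqs : GoodSet (qcqsSet X) where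
  qc := by
    rintro K ⟨U, hU, -, ⟨e⟩⟩
    exact isQC_of_iso e.symm ((isQCSite_iff U).1 (isQCSite_of_isCompact hU))
  gen Y := by
    obtain ⟨ι, F, π, hF, hπ⟩ := genBy_eps Y
    choose U hU using hF
    let κ : ι → Type u := fun i => {W : X.Opens // IsAffineOpen W ∧ W ≤ U i}
    have hc : ∀ i, Covers (fun W : κ i => epsMap JX (homOfLE W.2.2) ≫ eqToHom (hU i).symm) := fun i => by
      refine covers_comp_iso (covers_ofArrows (J := JX) (fun W : κ i => homOfLE W.2.2) ?_) (eqToIso (hU i).symm)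
      intro x hx
      obtain ⟨W, hW, hxW, hWU⟩ := exists_isAffineOpen_mem_and_subset hx
      exact ⟨W, homOfLE hWU, (Sieve.mem_ofArrows_iff _ _ _).2 ⟨⟨W, hW, hWU⟩, 𝟙 _, Subsingleton.elim _ _⟩, hxW⟩
    refine ⟨Σ i, κ i, fun p => eps JX p.2.1, fun p => (epsMap JX (homOfLE p.2.2.2) ≫ eqToHom (hU p.1).symm) ≫ π p.1,
      fun p => ⟨p.2.1, p.2.2.1.isCompact, p.2.2.1.isQuasiSeparated, ⟨Iso.refl _⟩⟩, covers_comp hπ hc⟩
  pb := by
    rintro K L M f g ⟨U, hU, hU', ⟨a⟩⟩ ⟨V, hV, hV', ⟨b⟩⟩ ⟨W, hW, hW', ⟨c⟩⟩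
    obtain ⟨hUW, hs⟩ := exists_le_of_hom (a.inv ≫ f ≫ c.hom)
    obtain ⟨hVW, ht⟩ := exists_le_of_hom (b.inv ≫ g ≫ c.hom)
    have sq := ((isPullback_inf hUW hVW).map yoneda).map (presheafToSheaf JX (Type u))
    refine ⟨eps JX (U ⊓ V), epsMap JX (homOfLE inf_le_left) ≫ a.inv, epsMap JX (homOfLE inf_le_right) ≫ b.inv,
      ⟨U ⊓ V, hW' U V hUW U.isOpen hU hVW V.isOpen hV, fun A B hA hA₁ hA₂ hB hB₁ hB₂ =>
        hU' A B (hA.trans (by simp)) hA₁ hA₂ (hB.trans (by simp)) hB₁ hB₂, ⟨Iso.refl _⟩⟩, ?_⟩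
    exact IsPullback.of_iso sq (Iso.refl _) a.symm b.symm c.symm (by simp) (by simp)
      (show epsMap JX (homOfLE hUW) ≫ c.inv = a.inv ≫ f by rw [← hs]; simp)
      (show epsMap JX (homOfLE hVW) ≫ c.inv = b.inv ≫ g by rw [← ht]; simp)

theorem preservesColimitsOfShape_H {U : X.Opens} (hU : IsCompact (U : Set X)) (hU' : IsQuasiSeparated (U : Set X))
    (Λ : Type u) [SmallCategory Λ] [IsFiltered Λ] (n : ℕ) :
    PreservesColimitsOfShape Λ ((Sheaf.cohomologyPresheafFunctor JX n).flip.obj (op U)) :=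
  (preservesColimitsOfShape_of_commutes (Λ := Λ) (fs JX U) n fun D c hc =>
    (commutes_HK goodSet_qcqs ⟨U, hU, hU', ⟨Iso.refl _⟩⟩ n D c hc).of_iso (freeSheafifyIso (yoneda.obj U)) :)

theorem preservesColimitsOfShape_RpushAb {S : Scheme.{u}} (f : X ⟶ S) [QuasiCompact f] [QuasiSeparated f] (p : ℕ)
    (Λ : Type u) [SmallCategory Λ] [IsFiltered Λ] :
    PreservesColimitsOfShape Λ (Coh.RpushAb f p) := by
  refine ⟨fun {F} => ?_⟩
  refine preservesColimit_Rpush_of_local (Opens.grothendieckTopology S) (Opens.map f.base) F p fun V => ?_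
  refine ⟨{W : S.Opens // IsAffineOpen W ∧ W ≤ V}, fun W => W.1, fun W => homOfLE W.2.2, fun x hx => ?_, fun W => ?_⟩
  · obtain ⟨W, hW, hxW, hWV⟩ := exists_isAffineOpen_mem_and_subset hx
    exact ⟨W, homOfLE hWV, (Sieve.mem_ofArrows_iff _ _ _).2 ⟨⟨W, hW, hWV⟩, 𝟙 _, Subsingleton.elim _ _⟩, hxW⟩
  · haveI := preservesColimitsOfShape_H (X := X) (U := f ⁻¹ᵁ W.1) (f.isCompact_preimage W.2.1.isCompact)
      (f.isQuasiSeparated_preimage W.2.1.isQuasiSeparated) Λ p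
    exact (inferInstanceAs (PreservesColimit F ((Sheaf.cohomologyPresheafFunctor JX p).flip.obj (op (f ⁻¹ᵁ W.1)))))

end Groth.L09.CohColim
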