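import Groth.Agent.L09.CohColim.Sec
import Mathlib.CategoryTheory.Sites.EpiMono
import Mathlib.CategoryTheory.Sites.Abelian
import Mathlib.CategoryTheory.Sites.Sheafification
import Mathlib.Algebra.Category.Grp.Limits
import Mathlib.Algebra.Category.Grp.Colimits
import Mathlib.Algebra.Category.Grp.EpiMono
import Mathlib.Algebra.Homology.ShortComplex.ShortExact
import Mathlib.CategoryTheory.Preadditive.Injective.Basic

/-!
Abelian sheaves with exact Cech complexes for finite covers by members of a class of quasi-compact objects.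
-/

set_option autoImplicit false
set_option linter.style.haveILetI false
set_option linter.unusedSectionVars false
universe u

open CategoryTheory CategoryTheory.Limits Opposite ToposFin Groth.L09.Topos

namespace Groth.L09.CohColim

variable {C : Type u} [SmallCategory C] {J : GrothendieckTopology C}

variable (J) in
/-- Classes of admissible families of morphisms of sheaves of sets. -/
abbrev Adm := ∀ (K : Sh J) (ι : Type u) (L : ι → Sh J), (∀ i, L i ⟶ K) → Prop

/-- The standing hypotheses on a class of objects and a class of admissible covering families: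
quasi-compactness, decomposition of the fibre powers, refinement of epimorphisms. -/
structure Good (S : Set (Sh J)) (𝒜 : Adm J) : Prop where
  qc : ∀ K ∈ S, IsQC K
  covers : ∀ {K : Sh J} {ι : Type u} {L : ι → Sh J} {π : ∀ i, L i ⟶ K}, 𝒜 K ι L π →
    K ∈ S ∧ Finite ι ∧ (∀ i, L i ∈ S) ∧ Covers π
  dec : ∀ {K : Sh J} {ι : Type u} {L : ι → Sh J} {π : ∀ i, L i ⟶ K}, 𝒜 K ι L π → ∀ n : ℕ, Dec S (TS π n)
  refine_epi : ∀ (K : Sh J), K ∈ S → ∀ (F : Sh J) (g : F ⟶ K), Epi g →
    ∃ (ι : Type u) (L : ι → Sh J) (π : ∀ i, L i ⟶ K), 𝒜 K ι L π ∧ ∀ i, ∃ l : L i ⟶ F, l ≫ g = π i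

variable {S : Set (Sh J)} {𝒜 : Adm J}

/-- Morphisms from a member into a filtered colimit factor through a stage. -/
theorem Good.exists_factor (hS : Good S 𝒜) {Λ : Type u} [SmallCategory Λ] [IsFiltered Λ] (D : Λ ⥤ Sh J)
    {K : Sh J} (hK : K ∈ S) (h : K ⟶ colimit D) : ∃ (i : Λ) (a : K ⟶ D.obj i), a ≫ colimit.ι D i = h := by
  classical
  let p : (∐ fun i => D.obj i) ⟶ colimit D := Sigma.desc (colimit.ι D)
  have : Epi p := (covers_iff_epi _).1 (covers_colimit_ι D)
  have : Epi (pullback.fst h p) := epi_of_covers _ (covers_pullback_fst (covers_of_epi.{u} p) h)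
  obtain ⟨ι, L, π, hπ, hl⟩ := hS.refine_epi K hK _ (pullback.fst h p) ‹_›
  choose l hl using hl
  obtain ⟨-, hι, hL, hcov⟩ := hS.covers hπ
  have : ∀ i, ∃ (k : Λ) (a : L i ⟶ D.obj k), a ≫ colimit.ι D k = π i ≫ h := fun i => by
    have hc : Covers (fun k : Λ => pullback.fst (l i ≫ pullback.snd h p) (Sigma.ι (fun i => D.obj i) k)) :=
      covers_pullback_fst (covers_of_isColimit (coproductIsCoproduct fun i => D.obj i)) (l i ≫ pullback.snd h p)
    obtain ⟨s, hs⟩ := exists_finite_subcover (hS.qc _ (hL i)) hc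
    obtain ⟨m, hm⟩ := IsFiltered.sup_objs_exists s
    obtain ⟨a, ha⟩ := exists_desc hs
      (fun k : s => pullback.snd _ _ ≫ D.map (hm k.2).some) (fun k k' => by
        by_cases hkk : k = k'
        · subst hkk
          have : Mono ((Cofan.mk _ (Sigma.ι fun i => D.obj i)).inj k.1) :=
            cofan_mono (coproductIsCoproduct fun i => D.obj i) k.1
          have := pullback.condition (f := pullback.fst (l i ≫ pullback.snd h p) (Sigma.ι (fun i => D.obj i) k.1))
            (g := pullback.fst (l i ≫ pullback.snd h p) (Sigma.ι (fun i => D.obj i) k.1))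
          rw [(cancel_mono (pullback.fst (l i ≫ pullback.snd h p) (Sigma.ι (fun i => D.obj i) k.1))).1 this]
        · have hne : (k.1 : Λ) ≠ k'.1 := fun e => hkk (Subtype.ext e)
          obtain ⟨hI⟩ := cofan_pieces_disjoint (coproductIsCoproduct fun i => D.obj i) hne
            (pullback.fst (pullback.fst (l i ≫ pullback.snd h p) (Sigma.ι (fun i => D.obj i) k.1))
              (pullback.fst (l i ≫ pullback.snd h p) (Sigma.ι (fun i => D.obj i) k'.1)))
            (pullback.snd _ _) (pullback.snd _ _) (pullback.snd _ _) (by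
              show _ ≫ _ ≫ Sigma.ι (fun i => D.obj i) k.1 = _ ≫ _ ≫ Sigma.ι (fun i => D.obj i) k'.1
              rw [← pullback.condition, ← pullback.condition]
              exact pullback.condition_assoc _)
          exact hI.hom_ext _ _)
    refine ⟨m, a, hs _ _ _ fun k => ?_⟩
    rw [reassoc_of% (ha k), colimit.w, ← hl i, Category.assoc, pullback.condition]
    simp only [← Category.assoc]
    rw [Category.assoc _ (l i), pullback.condition, Category.assoc, Sigma.ι_desc]
  choose k a ha using this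
  haveI := Fintype.ofFinite ι
  obtain ⟨m, hm⟩ := IsFiltered.sup_objs_exists (Finset.univ.image k)
  have g : ∀ i, k i ⟶ m := fun i => (hm (Finset.mem_image_of_mem k (Finset.mem_univ i))).some
  obtain ⟨κ, hκ, W, j, hW, hj⟩ := hS.dec hπ 1
  -- the two restrictions of the family `a` to the pairs
  let φ : Fin 2 → ∀ q, W q ⟶ D.obj m := fun l q =>
    ⟨{ app := fun V => TypeCat.ofHom fun w =>
         (a (((j q).app V w).1 l).1 ≫ D.map (g (((j q).app V w).1 l).1)).hom.app V (((j q).app V w).1 l).2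
       naturality := fun V V' u => ConcreteCategory.hom_ext _ _ fun w => by
         refine Eq.trans (congrArg (fun t : (TS π 1).obj V' => (a (t.1 l).1 ≫ D.map (g (t.1 l).1)).hom.app V' (t.1 l).2)
           (NatTrans.naturality_apply (j q) u w)) ?_
         exact NatTrans.naturality_apply (a (((j q).app V w).1 l).1 ≫ D.map (g (((j q).app V w).1 l).1)).hom u _ }⟩
  have hov : ∀ q, ∃ (r : Λ) (f : m ⟶ r), φ 0 q ≫ D.map f = φ 1 q ≫ D.map f := fun q =>
    hom_ext_colimit_of_isQC (hS.qc _ (hW q)) D _ _ (Sheaf.hom_ext (NatTrans.ext (funext fun V =>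
      ConcreteCategory.hom_ext _ _ fun w => by
        have e : ∀ (i : ι) (y : (L i).obj.obj V), (colimit.ι D m).hom.app V ((a i ≫ D.map (g i)).hom.app V y) =
            h.hom.app V ((π i).hom.app V y) := fun i y => by
          have := congrArg (fun q : L i ⟶ colimit D => q.hom.app V y)
            (show (a i ≫ D.map (g i)) ≫ colimit.ι D m = π i ≫ h by rw [Category.assoc, colimit.w, ha i])
          exact this
        exact (e _ _).trans ((congrArg (h.hom.app V) (((j q).app V w).2 0 1)).trans (e _ _).symm))))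
  choose r f hf using hov
  obtain ⟨r₀, f₀, hr⟩ := exists_dominate f
  obtain ⟨b, hb⟩ := exists_desc hcov (fun i => a i ≫ D.map (g i) ≫ D.map f₀) (fun i i' =>
    Sheaf.hom_ext (NatTrans.ext (funext fun V => ConcreteCategory.hom_ext _ _ fun w => by
      let y := (pullback.fst (π i) (π i')).hom.app V w
      let y' := (pullback.snd (π i) (π i')).hom.app V w
      have hyy : (π i).hom.app V y = (π i').hom.app V y' :=
        congr($(pullback.condition (f := π i) (g := π i')).hom.app V w)
      let t : Tup (fun i => (π i).hom) 1 V := ⟨![⟨i, y⟩, ⟨i', y'⟩], fun l m => by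
        fin_cases l <;> fin_cases m <;> first | rfl | exact hyy | exact hyy.symm⟩
      obtain ⟨⟨q, w'⟩, hw'⟩ := (hj V).2 t
      obtain ⟨u, hu⟩ := hr q
      have h₀ := congrArg (fun t : W q ⟶ D.obj (r q) => (D.map u).hom.app V (t.hom.app V w')) (hf q)
      have e : ∀ l : Fin 2, (D.map u).hom.app V ((φ l q ≫ D.map (f q)).hom.app V w') =
          (D.map f₀).hom.app V ((a (t.1 l).1 ≫ D.map (g (t.1 l).1)).hom.app V (t.1 l).2) := fun l => by
        refine Eq.trans ?_ (congrArg (fun t : (TS π 1).obj V => (D.map f₀).hom.app V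
          ((a (t.1 l).1 ≫ D.map (g (t.1 l).1)).hom.app V (t.1 l).2)) hw')
        rw [← hu, D.map_comp]
        rfl
      exact ((e 0).symm.trans (h₀.trans (e 1)) :))))
  refine ⟨r₀, b, hcov _ _ _ fun i => ?_⟩
  rw [reassoc_of% (hb i), colimit.w, colimit.w, ha i]

theorem Good.exists_rep (hS : Good S 𝒜) {Λ : Type u} [SmallCategory Λ] [IsFiltered Λ]
    {D : Λ ⥤ Sheaf J AddCommGrpCat.{u}} {c : Cocone D} (hc : IsColimit c) {K : Sh J} (hK : K ∈ S)
    (x : Fam K.obj c.pt.obj) (hx : IsNat x) :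
    ∃ (j : Λ) (y : Fam K.obj (D.obj j).obj), IsNat y ∧ mapFam (c.ι.app j).hom y = x :=
  CohColim.exists_rep hc (fun D h => hS.exists_factor D hK h) x hx

/-- All finite covers by members of `S`. -/
def allAdm (S : Set (Sh J)) : Adm J := fun K ι L π => K ∈ S ∧ Finite ι ∧ (∀ i, L i ∈ S) ∧ Covers π

/-- Exactness of the Cech complexes of admissible families. -/
def Acyc (𝒜 : Adm J) (F : Sheaf J AddCommGrpCat.{u}) : Prop :=
  ∀ (K : Sh J) (ι : Type u) (L : ι → Sh J) (π : ∀ i, L i ⟶ K),
    𝒜 K ι L π → CechExact F.obj (fun i => (π i).hom)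

theorem acyc_of_injective (𝒜 : Adm J) (I : Sheaf J AddCommGrpCat.{u}) [Injective I] : Acyc 𝒜 I :=
  fun K ι L π _ => by
    haveI : Injective I.obj := Injective.injective_of_adjoint (sheafificationAdjunction J AddCommGrpCat.{u}) I
    exact cechExact_of_injective

variable {E : ShortComplex (Sheaf J AddCommGrpCat.{u})} (hE : E.ShortExact)

include hE in
theorem app_injective (U : Cᵒᵖ) : Function.Injective (E.f.hom.app U) := by
  have := hE.mono_f
  have : Mono ((sheafToPresheaf J AddCommGrpCat.{u}).map E.f) := inferInstance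
  exact (AddCommGrpCat.mono_iff_injective _).1 ((NatTrans.mono_iff_mono_app _).1 this U)

include hE in
theorem app_exact (U : Cᵒᵖ) (x : E.X₂.obj.obj U) (hx : E.g.hom.app U x = 0) :
    ∃ y, E.f.hom.app U y = x := by
  have h := (hE.exact.map_of_mono_of_preservesKernel
    (sheafToPresheaf J AddCommGrpCat.{u} ⋙ (evaluation _ _).obj U) hE.mono_f inferInstance)
  rw [ShortComplex.ab_exact_iff] at h
  exact h x hx

variable {T : Cᵒᵖ ⥤ Type u}

theorem mapFam_comp_zero (x : Fam T E.X₁.obj) : mapFam E.g.hom (mapFam E.f.hom x) = 0 :=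
  funext fun V => funext fun t => congr($(E.zero).hom.app V (x V t))

include hE in
theorem exists_preimage (b : Fam T E.X₂.obj) (hb : IsNat b)
    (h : mapFam E.g.hom b = 0) : ∃ a : Fam T E.X₁.obj, IsNat a ∧ mapFam E.f.hom a = b := by
  choose a ha using fun V t => app_exact hE V (b V t) (congrFun (congrFun h V) t)
  refine ⟨a, fun {V W} g t => app_injective hE W ?_, funext fun V => funext fun t => ha V t⟩
  rw [ha, hb g t, ← ha V t]
  exact (NatTrans.naturality_apply E.f.hom g _).symm

include hE in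
theorem mapFam_injective {a b : Fam T E.X₁.obj}
    (h : mapFam E.f.hom a = mapFam E.f.hom b) : a = b :=
  funext fun V => funext fun t => app_injective hE V (congrFun (congrFun h V) t)

/-- Sections of `X₂` over the members of `S` surject onto those of `X₃`. -/
def Surj (S : Set (Sh J)) (E : ShortComplex (Sheaf J AddCommGrpCat.{u})) : Prop :=
  ∀ K ∈ S, ∀ c : Fam K.obj E.X₃.obj, IsNat c → ∃ b, IsNat b ∧ mapFam E.g.hom b = c

theorem exists_lift_of_dec (hs : Surj S E) (hT : Dec S T) (c : Fam T E.X₃.obj) (hc : IsNat c) :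
    ∃ b, IsNat b ∧ mapFam E.g.hom b = c := by
  obtain ⟨κ, _, W, j, hW, hj⟩ := hT
  choose s hs₁ hs₂ using fun k => hs (W k) (hW k) (comapFam (j k) c) (hc.comap _)
  obtain ⟨b, hb, hbs⟩ := exists_glue_of_bijective hj s hs₁
  refine ⟨b, hb, ext_of_bijective hj fun k => ?_⟩
  rw [← hs₂ k, ← hbs k]
  rfl

include hE in
theorem surj_of_acyc (hS : Good S 𝒜) (hA : Acyc 𝒜 E.X₁) : Surj S E := by
  intro K hK c hc
  have := hE.epi_g
  have : Sheaf.IsLocallySurjective E.g := (Sheaf.isLocallySurjective_iff_epi' (φ := E.g)).2 inferInstance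
  haveI : Epi ((und J).map E.g) := inferInstance
  have : Epi (pullback.fst (secHom c hc) ((und J).map E.g)) :=
    epi_of_covers _ (covers_pullback_fst (covers_of_epi.{u} ((und J).map E.g)) (secHom c hc))
  obtain ⟨ι, L, π, h𝒜, hl'⟩ := hS.refine_epi K hK _ (pullback.fst (secHom c hc) ((und J).map E.g)) ‹_›
  choose l' hl' using hl'
  obtain ⟨-, hι, hLS, hπ⟩ := hS.covers h𝒜
  let l : ∀ i, L i ⟶ (und J).obj E.X₂ := fun i => l' i ≫ pullback.snd _ _
  have hl : ∀ i, l i ≫ (und J).map E.g = π i ≫ secHom c hc := fun i => by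
    simp only [l, Category.assoc, ← pullback.condition]
    rw [reassoc_of% (hl' i)]
  have hlg : ∀ i V (y : (L i).obj.obj V), E.g.hom.app V (famHom (l i) V y) = c V ((π i).hom.app V y) :=
    fun i V y => congr($(hl i).hom.app V y)
  let x : Fam (TS π 0) E.X₂.obj := fun V t => famHom (l (t.1 0).1) V (t.1 0).2
  have hx : IsNat x := fun {V W} g t => isNat_famHom (l (t.1 0).1) g (t.1 0).2
  have hgx : mapFam E.g.hom x = comapFam (Taug 0) c :=
    funext fun V => funext fun t => hlg (t.1 0).1 V (t.1 0).2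
  obtain ⟨a, ha, hax⟩ := exists_preimage hE (d x) hx.d (by rw [← d_mapFam, hgx, d_comap_Taug])
  obtain ⟨a', ha', hda'⟩ := hA K ι L π h𝒜 0 a ha (mapFam_injective hE (by
    rw [← d_mapFam, hax, d_d, mapFam_zero]))
  obtain ⟨b, hb, hbz⟩ := exists_glue π hπ (x - mapFam E.f.hom a') (hx.sub (ha'.map _))
    (by rw [d_sub, d_mapFam, hda', hax, sub_self])
  refine ⟨b, hb, ext_of_covers π hπ (hb.map _) hc ?_⟩
  have : comapFam (Taug (π := fun i => (π i).hom) 0) (mapFam E.g.hom b) = mapFam E.g.hom (x - mapFam E.f.hom a') := by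
    rw [← hbz]; rfl
  rw [this, mapFam_sub, mapFam_comp_zero, sub_zero, hgx]

include hE in
theorem acyc_X₃ (hS : Good S 𝒜) (hA : Acyc 𝒜 E.X₁) (hB : Acyc 𝒜 E.X₂) : Acyc 𝒜 E.X₃ := by
  intro K ι L π h𝒜 n c hc hdc
  obtain ⟨b, hb, hgb⟩ := exists_lift_of_dec (surj_of_acyc hE hS hA) (hS.dec h𝒜 (n + 1)) c hc
  obtain ⟨a, ha, hab⟩ := exists_preimage hE (d b) hb.d (by rw [← d_mapFam, hgb, hdc])
  obtain ⟨a', ha', hda'⟩ := hA K ι L π h𝒜 (n + 1) a ha (mapFam_injective hE (by
    rw [← d_mapFam, hab, d_d, mapFam_zero]))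
  obtain ⟨b', hb', hdb'⟩ := hB K ι L π h𝒜 n (b - mapFam E.f.hom a') (hb.sub (ha'.map _))
    (by rw [d_sub, d_mapFam, hda', hab, sub_self])
  refine ⟨mapFam E.g.hom b', hb'.map _, ?_⟩
  rw [d_mapFam, hdb', mapFam_sub, mapFam_comp_zero, sub_zero, hgb]

theorem acyc_colimit (hS : Good S 𝒜) {Λ : Type u} [SmallCategory Λ] [IsFiltered Λ]
    {D : Λ ⥤ Sheaf J AddCommGrpCat.{u}} {c : Cocone D} (hc : IsColimit c) (h : ∀ j, Acyc 𝒜 (D.obj j)) :
    Acyc 𝒜 c.pt := by
  intro K ι L π h𝒜 n x hx hdx
  obtain ⟨κ, _, W, jW, hW, hj⟩ := hS.dec h𝒜 (n + 1)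
  obtain ⟨κ', _, W', jW', hW', hj'⟩ := hS.dec h𝒜 (n + 1 + 1)
  choose st y hy hyx using fun k => hS.exists_rep hc (hW k) (comapFam (jW k) x) (hx.comap _)
  classical
  haveI := Fintype.ofFinite κ
  obtain ⟨m, hm⟩ := IsFiltered.sup_objs_exists (Finset.univ.image st)
  have f : ∀ k, st k ⟶ m := fun k => (hm (Finset.mem_image_of_mem st (Finset.mem_univ k))).some
  obtain ⟨b, hb, hbs⟩ := exists_glue_of_bijective hj (fun k => mapFam (D.map (f k)).hom (y k))
    fun k => IsNat.map _ (hy k)
  have hbx : mapFam (c.ι.app m).hom b = x := ext_of_bijective hj fun k => by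
    rw [← hyx k]
    refine Eq.trans (congrArg (mapFam (c.ι.app m).hom) (hbs k)) (funext fun V => funext fun t => ?_)
    exact congr($(c.w (f k)).hom.app V (y k V t))
  have hker : ∀ k, mapFam (c.ι.app m).hom (comapFam (jW' k) (d b)) = 0 := fun k => by
    have : mapFam (c.ι.app m).hom (d b) = 0 := by rw [← d_mapFam, hbx, hdx]
    funext V t
    exact congrFun (congrFun this V) ((jW' k).app V t)
  choose st' g hg using fun k => exists_map_eq_zero hc (hS.qc _ (hW' k)) m _ (IsNat.comap (jW' k) hb.d) (hker k)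
  obtain ⟨r, g₀, hr⟩ := exists_dominate g
  have hb₀ : d (mapFam (D.map g₀).hom b) = 0 := ext_of_bijective hj' fun k => by
    obtain ⟨t, ht⟩ := hr k
    rw [d_mapFam]
    funext V w
    show (D.map g₀).hom.app V (comapFam (jW' k) (d b) V w) = 0
    rw [← ht, D.map_comp]
    exact (congrArg ((D.map t).hom.app V) (congrFun (congrFun (hg k) V) w)).trans (map_zero _)
  obtain ⟨z, hz, hdz⟩ := h r K ι L π h𝒜 n _ (hb.map _) hb₀
  refine ⟨mapFam (c.ι.app r).hom z, hz.map _, ?_⟩
  rw [d_mapFam, hdz, ← hbx]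
  funext V t
  exact congr($(c.w g₀).hom.app V (b V t))

end Groth.L09.CohColim
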