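import Mathlib.AlgebraicTopology.AlternatingFaceMapComplex
import Mathlib.Algebra.Category.Grp.Adjunctions
import Mathlib.Algebra.Category.Grp.Abelian
import Mathlib.Algebra.Homology.ShortComplex.Ab
import Mathlib.CategoryTheory.Abelian.FunctorCategory
import Mathlib.CategoryTheory.Abelian.Injective.Basic

/-!
Natural families on presheaves of sets and Cech cochains of a family of morphisms of presheaves.
-/

set_option autoImplicit false
set_option linter.style.haveILetI false
universe u

open CategoryTheory CategoryTheory.Limits Opposite Simplicial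

namespace Groth.L09.CohColim

variable {C : Type u} [SmallCategory C]

/-- Families of values of `P` indexed by the elements of `T`. -/
abbrev Fam (T : Cᵒᵖ ⥤ Type u) (P : Cᵒᵖ ⥤ AddCommGrpCat.{u}) : Type u :=
  ∀ V, T.obj V → P.obj V

variable {T T' : Cᵒᵖ ⥤ Type u} {P Q : Cᵒᵖ ⥤ AddCommGrpCat.{u}}

/-- Natural families. -/
def IsNat (x : Fam T P) : Prop :=
  ∀ {V W : Cᵒᵖ} (g : V ⟶ W) (t : T.obj V), x W (T.map g t) = P.map g (x V t)

/-- Applying a morphism of presheaves. -/
def mapFam (φ : P ⟶ Q) (x : Fam T P) : Fam T Q := fun V t => φ.app V (x V t)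

/-- Restricting along a morphism of presheaves of sets. -/
def comapFam (a : T' ⟶ T) (x : Fam T P) : Fam T' P := fun V t => x V (a.app V t)

theorem IsNat.map (φ : P ⟶ Q) {x : Fam T P} (hx : IsNat x) : IsNat (mapFam φ x) := fun {V W} g t => by
  show φ.app _ (x W _) = Q.map g (φ.app _ (x V t))
  rw [hx g t]
  exact NatTrans.naturality_apply φ g _

theorem IsNat.comap (a : T' ⟶ T) {x : Fam T P} (hx : IsNat x) : IsNat (comapFam a x) := fun {V W} g t => by
  show x W (a.app W (T'.map g t)) = P.map g (x V (a.app V t))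
  rw [← hx g (a.app V t)]
  exact congrArg (x W) (NatTrans.naturality_apply a g t)

theorem IsNat.sub {x y : Fam T P} (hx : IsNat x) (hy : IsNat y) : IsNat (x - y) := fun {V W} g t => by
  show x W _ - y W _ = P.map g (x V t - y V t)
  rw [map_sub, hx g t, hy g t]

theorem isNat_zero : IsNat (0 : Fam T P) := fun {V W} g t => (map_zero (P.map g).hom).symm

theorem mapFam_zero (φ : P ⟶ Q) : mapFam φ (0 : Fam T P) = 0 :=
  funext fun V => funext fun _ => map_zero (φ.app V).hom

theorem mapFam_sub (φ : P ⟶ Q) (x y : Fam T P) : mapFam φ (x - y) = mapFam φ x - mapFam φ y :=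
  funext fun V => funext fun _ => map_sub (φ.app V).hom _ _

/-- A natural family as a map out of the free presheaf. -/
noncomputable def toHom (x : Fam T P) (hx : IsNat x) : T ⋙ AddCommGrpCat.free.{u} ⟶ P where
  app V := AddCommGrpCat.ofHom (FreeAbelianGroup.lift fun s => x V s)
  naturality V W f := by
    refine AddCommGrpCat.hom_ext (FreeAbelianGroup.lift_ext _ _ fun s => ?_)
    change FreeAbelianGroup.lift (fun s => x W s) (FreeAbelianGroup.map (T.map f) (FreeAbelianGroup.of s)) =
      P.map f (FreeAbelianGroup.lift (fun s => x V s) (FreeAbelianGroup.of s))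
    rw [FreeAbelianGroup.map_of_apply, FreeAbelianGroup.lift_apply_of, FreeAbelianGroup.lift_apply_of]
    exact hx f s

theorem toHom_of (x : Fam T P) (hx : IsNat x) {V : Cᵒᵖ} (s : T.obj V) :
    (toHom x hx).app V (FreeAbelianGroup.of s) = x V s := FreeAbelianGroup.lift_apply_of _ _

/-- The family given by a map out of the free presheaf. -/
def famOf (φ : T ⋙ AddCommGrpCat.free.{u} ⟶ P) : Fam T P := fun V s => φ.app V (FreeAbelianGroup.of s)

theorem isNat_famOf (φ : T ⋙ AddCommGrpCat.free.{u} ⟶ P) : IsNat (famOf φ) := fun {V W} g t => by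
  refine Eq.trans ?_ (NatTrans.naturality_apply φ g (FreeAbelianGroup.of t))
  exact congrArg (φ.app W) (FreeAbelianGroup.map_of_apply (f := ⇑(T.map g)) t).symm

theorem famOf_injective : Function.Injective (famOf (T := T) (P := P)) := fun φ ψ h =>
  NatTrans.ext (funext fun V => AddCommGrpCat.hom_ext
    (FreeAbelianGroup.lift_ext _ _ fun s => congrFun (congrFun h V) s))

section Cech

variable {ι : Type u} {L : ι → (Cᵒᵖ ⥤ Type u)} {K : Cᵒᵖ ⥤ Type u} (π : ∀ i, L i ⟶ K)

/-- The image in `K` of an element of one of the `L i`. -/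
def pr {V : Cᵒᵖ} (y : Σ i, (L i).obj V) : K.obj V := (π y.1).app V y.2

/-- Tuples of elements of the `L i` with the same image. -/
def Tup (n : ℕ) (V : Cᵒᵖ) : Type u :=
  {f : Fin (n + 1) → Σ i, (L i).obj V // ∀ k l, pr π (f k) = pr π (f l)}

/-- Restriction of elements. -/
def resPt {V W : Cᵒᵖ} (g : V ⟶ W) (y : Σ i, (L i).obj V) : Σ i, (L i).obj W := ⟨y.1, (L y.1).map g y.2⟩

theorem pr_resPt {V W : Cᵒᵖ} (g : V ⟶ W) (y : Σ i, (L i).obj V) : pr π (resPt g y) = K.map g (pr π y) :=
  NatTrans.naturality_apply (π y.1) g y.2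

variable {π}

/-- Restriction of tuples. -/
def Tup.res {n : ℕ} {V W : Cᵒᵖ} (g : V ⟶ W) (t : Tup π n V) : Tup π n W :=
  ⟨fun k => resPt g (t.1 k), fun k l => by rw [pr_resPt, pr_resPt, t.2 k l]⟩

variable (π) in
/-- Tuples as a presheaf. -/
def TT (n : ℕ) : Cᵒᵖ ⥤ Type u where
  obj V := Tup π n V
  map g := TypeCat.ofHom fun t => Tup.res g t
  map_id V := by
    refine ConcreteCategory.hom_ext _ _ fun t => Subtype.ext (funext fun k => ?_)
    exact Sigma.ext rfl (heq_of_eq (FunctorToTypes.map_id_apply (L (t.1 k).1) (t.1 k).2))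
  map_comp {U V W} g h := by
    refine ConcreteCategory.hom_ext _ _ fun t => Subtype.ext (funext fun k => ?_)
    exact Sigma.ext rfl (heq_of_eq (FunctorToTypes.map_comp_apply (L (t.1 k).1) g h (t.1 k).2))

/-- Reindexing. -/
def Tup.reindex {n m : ℕ} (φ : Fin (m + 1) → Fin (n + 1)) {V : Cᵒᵖ} (t : Tup π n V) : Tup π m V :=
  ⟨t.1 ∘ φ, fun _ _ => t.2 _ _⟩

/-- Forgetting one entry. -/
def Tup.face {n : ℕ} (j : Fin (n + 2)) {V : Cᵒᵖ} (t : Tup π (n + 1) V) : Tup π n V :=
  t.reindex j.succAbove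

/-- Faces. -/
def Tface {n : ℕ} (j : Fin (n + 2)) : TT π (n + 1) ⟶ TT π n where
  app V := TypeCat.ofHom fun t => t.face j

/-- The common image. -/
def Taug (n : ℕ) : TT π n ⟶ K where
  app V := TypeCat.ofHom fun t => pr π (t.1 0)
  naturality V W g := ConcreteCategory.hom_ext _ _ fun t => pr_resPt π g (t.1 0)

/-- The Cech differential. -/
def d {n : ℕ} (x : Fam (TT π n) P) : Fam (TT π (n + 1)) P :=
  fun V t => ∑ j : Fin (n + 2), (-1 : ℤ) ^ (j : ℕ) • x V (Tup.face j t)

theorem IsNat.d {n : ℕ} {x : Fam (TT π n) P} (hx : IsNat x) : IsNat (d x) := fun {V W} g t => by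
  unfold CohColim.d
  rw [map_sum]
  refine Finset.sum_congr rfl fun j _ => ?_
  rw [map_zsmul]
  exact congrArg _ (hx g (Tup.face j t))

theorem d_sub {n : ℕ} (x y : Fam (TT π n) P) : d (x - y) = d x - d y := by
  funext V t
  simp only [d, Pi.sub_apply, zsmul_sub, Finset.sum_sub_distrib]

theorem d_mapFam (φ : P ⟶ Q) {n : ℕ} (x : Fam (TT π n) P) : d (mapFam φ x) = mapFam φ (d x) := by
  funext V t
  simp only [d, mapFam, map_sum, map_zsmul]

theorem d_zero_apply (x : Fam (TT π 0) P) (V : Cᵒᵖ) (t : Tup π 1 V) :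
    d x V t = x V (Tup.face 0 t) - x V (Tup.face 1 t) := by
  show ∑ j : Fin 2, (-1 : ℤ) ^ (j : ℕ) • x V (Tup.face j t) = _
  simp [Fin.sum_univ_two, sub_eq_add_neg]

theorem d_comap_Taug (b : Fam K P) : d (comapFam (Taug (π := π) 0) b) = 0 := by
  funext V t
  rw [d_zero_apply]
  show b V (pr π ((Tup.face 0 t).1 0)) - b V (pr π ((Tup.face 1 t).1 0)) = 0
  rw [sub_eq_zero]
  exact congrArg (b V) (t.2 _ _)

variable (π P) in
/-- The cosimplicial group of families at one object. -/
def cosimp (V : Cᵒᵖ) : CosimplicialObject AddCommGrpCat.{u} where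
  obj n := AddCommGrpCat.of (Tup π n.len V → P.obj V)
  map φ := AddCommGrpCat.ofHom
    { toFun := fun x t => x (t.reindex φ.toOrderHom)
      map_zero' := rfl
      map_add' := fun _ _ => rfl }
  map_id _ := rfl
  map_comp _ _ := rfl

theorem objD_cosimp (V : Cᵒᵖ) (n : ℕ) (x : (cosimp P π V).obj (SimplexCategory.mk n)) (t : Tup π (n + 1) V) :
    (show Tup π (n + 1) V → P.obj V from
      AlgebraicTopology.AlternatingCofaceMapComplex.objD (cosimp P π V) n x) t =
      ∑ j : Fin (n + 2), (-1 : ℤ) ^ (j : ℕ) •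
        (show Tup π n V → P.obj V from x) (t.face j) := by
  let ev : (cosimp P π V).obj (SimplexCategory.mk (n + 1)) →+ P.obj V :=
    { toFun := fun z => (show Tup π (n + 1) V → P.obj V from z) t
      map_zero' := rfl
      map_add' := fun _ _ => rfl }
  have h : AlgebraicTopology.AlternatingCofaceMapComplex.objD (cosimp P π V) n x =
      ∑ j : Fin (n + 2), (-1 : ℤ) ^ (j : ℕ) • (cosimp P π V).δ j x := by
    unfold AlgebraicTopology.AlternatingCofaceMapComplex.objD
    change (AddCommGrpCat.homAddEquiv (∑ j : Fin (n + 2), (-1 : ℤ) ^ (j : ℕ) • (cosimp P π V).δ j)) x = _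
    simp only [map_sum, map_zsmul, AddMonoidHom.finsetSum_apply, AddMonoidHom.smul_apply]
    rfl
  refine (congrArg ev h).trans ((map_sum ev _ _).trans (Finset.sum_congr rfl fun j _ => ?_))
  rw [map_zsmul]
  rfl

theorem d_d {n : ℕ} (x : Fam (TT π n) P) : d (d x) = 0 := by
  funext V t
  have h : (show Tup π (n + 1 + 1) V → P.obj V from
      AlgebraicTopology.AlternatingCofaceMapComplex.objD (cosimp P π V) (n + 1)
        (AlgebraicTopology.AlternatingCofaceMapComplex.objD (cosimp P π V) n (x V))) t = 0 :=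
    congrFun (ConcreteCategory.congr_hom
      (AlgebraicTopology.AlternatingCofaceMapComplex.d_squared (cosimp P π V) n) (x V)) t
  refine Eq.trans ?_ h
  refine Eq.trans ?_ (objD_cosimp V (n + 1) _ t).symm
  exact Finset.sum_congr rfl fun j _ => congrArg _ (objD_cosimp V n (x V) (Tup.face j t)).symm

variable (π P) in
/-- The Cech complex is exact in positive degrees. -/
def CechExact : Prop :=
  ∀ (n : ℕ) (x : Fam (TT π (n + 1)) P), IsNat x → d x = 0 → ∃ y : Fam (TT π n) P, IsNat y ∧ d y = x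

variable (π) in
/-- Differential of the free presheaves. -/
noncomputable def Frd (n : ℕ) : TT π (n + 1) ⋙ AddCommGrpCat.free.{u} ⟶ TT π n ⋙ AddCommGrpCat.free.{u} :=
  ∑ j : Fin (n + 2), (-1 : ℤ) ^ (j : ℕ) • Functor.whiskerRight (Tface j) AddCommGrpCat.free.{u}

theorem sum_hom_apply {A B : AddCommGrpCat.{u}} {κ : Type} (s : Finset κ) (c : κ → ℤ) (f : κ → (A ⟶ B))
    (x : A) : (∑ i ∈ s, c i • f i) x = ∑ i ∈ s, c i • f i x := by
  classical
  induction s using Finset.induction_on with
  | empty => simp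
  | insert a s ha ih => simp [Finset.sum_insert ha, ih]

theorem Frd_app_of {n : ℕ} (V : Cᵒᵖ) (s : Tup π (n + 1) V) :
    (Frd π n).app V (FreeAbelianGroup.of (s : (TT π (n + 1)).obj V)) =
      ∑ j : Fin (n + 2), (-1 : ℤ) ^ (j : ℕ) • (FreeAbelianGroup.of (s.face j : (TT π n).obj V) :
        FreeAbelianGroup ((TT π n).obj V)) := by
  simp only [Frd, NatTrans.app_sum, NatTrans.app_zsmul]
  refine (sum_hom_apply _ _ _ _).trans ?_
  exact Finset.sum_congr rfl fun j _ => congrArg _ (FreeAbelianGroup.map_of_apply _)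

theorem famOf_Frd_comp {n : ℕ} (φ : TT π n ⋙ AddCommGrpCat.free.{u} ⟶ P) :
    famOf (Frd π n ≫ φ) = d (famOf φ) :=
  funext fun V => funext fun s => (congrArg (φ.app V) (Frd_app_of V s)).trans
    ((map_sum (φ.app V).hom _ _).trans (Finset.sum_congr rfl fun _ _ => map_zsmul (φ.app V).hom _ _))

/-- A chosen lift. -/
noncomputable def sec {V : Cᵒᵖ} (a : K.obj V) (h : ∃ y : Σ i, (L i).obj V, pr π y = a) : Σ i, (L i).obj V :=
  Classical.choose h

theorem sec_spec {V : Cᵒᵖ} (a : K.obj V) (h : ∃ y : Σ i, (L i).obj V, pr π y = a) : pr π (sec a h) = a :=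
  Classical.choose_spec h

theorem sec_congr {V : Cᵒᵖ} {a a' : K.obj V} (ha : a = a') (h : ∃ y : Σ i, (L i).obj V, pr π y = a) :
    sec a h = sec a' (ha ▸ h) := by subst ha; rfl

/-- The contraction on tuples. -/
noncomputable def hTup {n : ℕ} {V : Cᵒᵖ} (s : Tup π n V) : Tup π (n + 1) V :=
  ⟨Fin.cons (sec (pr π (s.1 0)) ⟨s.1 0, rfl⟩) s.1, fun k l => by
    have key : ∀ k : Fin (n + 1 + 1), pr π (Fin.cons (α := fun _ => Σ i, (L i).obj V)
        (sec (pr π (s.1 0)) ⟨s.1 0, rfl⟩) s.1 k) = pr π (s.1 0) := fun k => by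
      refine Fin.cases ?_ (fun i => ?_) k
      · rw [Fin.cons_zero]; exact sec_spec _ _
      · rw [Fin.cons_succ]; exact s.2 i 0
    exact (key k).trans (key l).symm⟩

theorem face_hTup_zero {n : ℕ} {V : Cᵒᵖ} (s : Tup π n V) : (hTup s).face 0 = s :=
  Subtype.ext (funext fun k => by simp [Tup.face, Tup.reindex, hTup])

theorem face_hTup_succ {n : ℕ} {V : Cᵒᵖ} (s : Tup π (n + 1) V) (j : Fin (n + 2)) :
    (hTup s).face j.succ = hTup (s.face j) :=
  Subtype.ext (funext fun k => by
    refine Fin.cases ?_ (fun i => ?_) k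
    · simpa [Tup.face, Tup.reindex, hTup] using sec_congr (s.2 0 (j.succAbove 0)) ⟨s.1 0, rfl⟩
    · simp [Tup.face, Tup.reindex, hTup]; rfl)

theorem exists_factor {n : ℕ} (P : Cᵒᵖ ⥤ AddCommGrpCat.{u}) [Injective P]
    (φ : TT π (n + 1) ⋙ AddCommGrpCat.free.{u} ⟶ P) (hφ : Frd π (n + 1) ≫ φ = 0) :
    ∃ ψ, Frd π n ≫ ψ = φ := by
  have hker : kernel.ι (Frd π n) ≫ φ = 0 := by
    refine NatTrans.ext (funext fun V => AddCommGrpCat.hom_ext (AddMonoidHom.ext fun z => ?_))
    have hx : (Frd π n).app V ((kernel.ι (Frd π n)).app V z) = 0 :=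
      congr($(congr_app (kernel.condition (Frd π n)) V) z)
    change φ.app V ((kernel.ι (Frd π n)).app V z) = 0
    generalize (kernel.ι (Frd π n)).app V z = x at hx ⊢
    let H : ∀ m, FreeAbelianGroup (Tup π m V) →+ FreeAbelianGroup (Tup π (m + 1) V) :=
      fun m => FreeAbelianGroup.map hTup
    let dd : ∀ m, FreeAbelianGroup (Tup π (m + 1) V) →+ FreeAbelianGroup (Tup π m V) :=
      fun m => ((Frd π m).app V).hom
    have hdd : ∀ m (s : Tup π (m + 1) V), dd m (FreeAbelianGroup.of s) = ∑ j : Fin (m + 2), (-1 : ℤ) ^ (j : ℕ) •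
        (FreeAbelianGroup.of (s.face j) : FreeAbelianGroup (Tup π m V)) :=
      fun m s => Frd_app_of V s
    have key : ∀ y : FreeAbelianGroup (Tup π (n + 1) V), dd (n + 1) (H (n + 1) y) + H n (dd n y) = y := by
      suffices hk : (dd (n + 1)).comp (H (n + 1)) + (H n).comp (dd n) =
          AddMonoidHom.id _ from fun y => DFunLike.congr_fun hk y
      refine FreeAbelianGroup.lift_ext _ _ fun s => ?_
      simp only [AddMonoidHom.add_apply, AddMonoidHom.comp_apply, AddMonoidHom.id_apply, H,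
        FreeAbelianGroup.map_of_apply]
      rw [hdd, hdd]
      rw [map_sum, Fin.sum_univ_succ]
      simp only [map_zsmul, FreeAbelianGroup.map_of_apply, face_hTup_zero, face_hTup_succ, Fin.val_succ,
        Fin.val_zero, pow_zero, one_smul, pow_succ, mul_neg, mul_one, neg_smul, Finset.sum_neg_distrib]
      abel
    have hx' := key x
    rw [show dd n x = 0 from hx, map_zero, add_zero] at hx'
    rw [← hx']
    exact congr($(congr_app hφ V) (H (n + 1) x))
  have hex : (ShortComplex.mk _ _ (kernel.condition (Frd π n))).Exact :=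
    ShortComplex.exact_of_f_is_kernel _ (kernelIsKernel _)
  exact ⟨hex.descToInjective φ hker, hex.comp_descToInjective φ hker⟩

/-- The Cech complex of an injective presheaf is exact. -/
theorem cechExact_of_injective [Injective P] : CechExact P π := fun n x hx hdx => by
  obtain ⟨ψ, hψ⟩ := exists_factor P (toHom x hx) (famOf_injective (by
    rw [famOf_Frd_comp]
    funext V s
    refine Eq.trans ?_ ((congrFun (congrFun hdx V) s).trans (by rfl))
    exact Finset.sum_congr rfl fun j _ => congrArg _ (toHom_of x hx _)))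
  refine ⟨famOf ψ, isNat_famOf ψ, ?_⟩
  rw [← famOf_Frd_comp, hψ]
  exact funext fun V => funext fun t => toHom_of x hx t

end Cech

end Groth.L09.CohColim
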