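import Groth.Agent.L09.CohColim.Acyclic
import Mathlib.Algebra.Homology.DerivedCategory.Ext.ExtClass
import Mathlib.Algebra.Homology.DerivedCategory.Ext.ExactSequences
import Mathlib.CategoryTheory.Abelian.GrothendieckAxioms.Basic

/-!
Cohomology with respect to coherent objects of a topos commutes with filtered colimits.
-/

set_option autoImplicit false
set_option linter.style.haveILetI false
set_option linter.unusedSectionVars false
universe u

open CategoryTheory CategoryTheory.Limits Opposite CategoryTheory.Abelian ToposFin Groth.L09.Topos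

namespace Groth.L09.CohColim

variable {C : Type u} [SmallCategory C] {J : GrothendieckTopology C} {S : Set (Sh J)} {𝒜 : Adm J} (hS : Good S 𝒜)
  {A : Sheaf J AddCommGrpCat.{u}}

/-- The map induced on `Ext`. -/
noncomputable abbrev Emap {F G : Sheaf J AddCommGrpCat.{u}} (f : F ⟶ G) (n : ℕ) : Ext A F n →+ Ext A G n :=
  (Ext.mk₀ f).postcomp A (add_zero n)

theorem Emap_apply {F G : Sheaf J AddCommGrpCat.{u}} (f : F ⟶ G) {n : ℕ} (x : Ext A F n) :
    Emap f n x = x.comp (Ext.mk₀ f) (add_zero n) := rfl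

theorem map_id_apply {F : Sheaf J AddCommGrpCat.{u}} {n : ℕ} (x : Ext A F n) : Emap (𝟙 F) n x = x := by
  simp [Emap_apply]

theorem map_comp_apply {F G H : Sheaf J AddCommGrpCat.{u}} (f : F ⟶ G) {n : ℕ} (g : G ⟶ H) (x : Ext A F n) :
    Emap (f ≫ g) n x = Emap g n (Emap f n x) := by
  simp [Emap_apply]

include hS in
theorem exists_map_H0 {E : ShortComplex (Sheaf J AddCommGrpCat.{u})} (hE : E.ShortExact) (hs : Surj S E)
    {K : Sh J} (hK : K ∈ S) (x : Ext (Z K) E.X₃ 0) : ∃ y, Emap E.g 0 y = x := by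
  obtain ⟨φ, rfl⟩ := (Ext.mk₀_bijective _ _).2 x
  obtain ⟨b, hb, hbφ⟩ := hs K hK (secOf φ) (isNat_secOf φ)
  obtain ⟨ψ, rfl⟩ := exists_secOf_eq b hb
  exact ⟨Ext.mk₀ ψ, by rw [Emap_apply, Ext.mk₀_comp_mk₀, secOf_injective ((secOf_comp ψ E.g).trans hbφ)]⟩

include hS in
/-- Cech exact sheaves are acyclic. -/
theorem subsingleton_H_of_acyc {K : Sh J} (hK : K ∈ S) (n : ℕ) (F : Sheaf J AddCommGrpCat.{u}) (hF : Acyc 𝒜 F) :
    Subsingleton (Ext (Z K) F (n + 1)) := by
  induction n generalizing F with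
  | zero =>
    let E := ShortComplex.mk (Injective.ι F) (cokernel.π _) (cokernel.condition _)
    have hE : E.ShortExact :=
      { exact := ShortComplex.exact_of_g_is_cokernel _ (cokernelIsCokernel _) }
    refine subsingleton_of_forall_eq 0 fun x => ?_
    obtain ⟨y, hy⟩ := Ext.covariant_sequence_exact₁ _ hE x (Ext.eq_zero_of_injective _) (zero_add 1)
    obtain ⟨z, hz⟩ := exists_map_H0 hS hE (surj_of_acyc hE hS hF) hK y
    rw [← hy, ← hz, Emap_apply, Ext.comp_assoc_of_second_deg_zero, ShortComplex.ShortExact.comp_extClass,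
      Ext.comp_zero]
  | succ n ih =>
    let E := ShortComplex.mk (Injective.ι F) (cokernel.π _) (cokernel.condition _)
    have hE : E.ShortExact :=
      { exact := ShortComplex.exact_of_g_is_cokernel _ (cokernelIsCokernel _) }
    haveI := ih _ (acyc_X₃ hE hS hF (acyc_of_injective 𝒜 (Injective.under F)))
    refine subsingleton_of_forall_eq 0 fun x => ?_
    obtain ⟨y, hy⟩ := Ext.covariant_sequence_exact₁ _ hE x (Ext.eq_zero_of_injective _) rfl
    rw [← hy, Subsingleton.elim y 0, Ext.zero_comp]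

include hS in
/-- Sheaves without higher cohomology over the members of `S` are Cech exact. -/
theorem acyc_of_subsingleton (F : Sheaf J AddCommGrpCat.{u})
    (h : ∀ K ∈ S, ∀ q : ℕ, Subsingleton (Ext (Z K) F (q + 1))) : Acyc 𝒜 F := by
  intro K ι L π h𝒜 n
  obtain ⟨hK, hι, hL, hπ⟩ := hS.covers h𝒜
  induction n generalizing F with
  | zero =>
    intro x hx hdx
    let E := ShortComplex.mk (Injective.ι F) (cokernel.π _) (cokernel.condition _)
    have hE : E.ShortExact :=
      { exact := ShortComplex.exact_of_g_is_cokernel _ (cokernelIsCokernel _) }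
    have hs : Surj S E := fun W hW c hc => by
      obtain ⟨φ, rfl⟩ := exists_secOf_eq c hc
      obtain ⟨y, hy⟩ := Ext.covariant_sequence_exact₃ _ hE (Ext.mk₀ φ) (zero_add 1)
        ((h W hW 0).elim _ _)
      obtain ⟨ψ, rfl⟩ := (Ext.mk₀_bijective _ _).2 y
      rw [Ext.mk₀_comp_mk₀] at hy
      exact ⟨secOf ψ, isNat_secOf ψ, (secOf_comp ψ E.g).symm.trans (congrArg secOf ((Ext.mk₀_bijective _ _).1 hy))⟩
    obtain ⟨y, hy, hdy⟩ := acyc_of_injective 𝒜 (Injective.under F) K ι L π h𝒜 0 _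
      (hx.map E.f.hom) (by rw [d_mapFam, hdx, mapFam_zero])
    obtain ⟨c, hc, hcy⟩ := exists_glue π hπ (mapFam E.g.hom y) (hy.map _)
      (by rw [d_mapFam, hdy]; exact mapFam_comp_zero (E := E) x)
    obtain ⟨b, hb, hbc⟩ := hs K hK c hc
    obtain ⟨a, ha, hay⟩ := exists_preimage hE (y - comapFam (Taug 0) b) (hy.sub (hb.comap _)) (by
      rw [mapFam_sub, ← hcy, ← hbc, sub_eq_zero]; rfl)
    refine ⟨a, ha, mapFam_injective hE ?_⟩
    rw [← d_mapFam, hay, d_sub, d_comap_Taug, sub_zero, hdy]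
  | succ n ih =>
    intro x hx hdx
    let E := ShortComplex.mk (Injective.ι F) (cokernel.π _) (cokernel.condition _)
    have hE : E.ShortExact :=
      { exact := ShortComplex.exact_of_g_is_cokernel _ (cokernelIsCokernel _) }
    have hs : Surj S E := fun W hW c hc => by
      obtain ⟨φ, rfl⟩ := exists_secOf_eq c hc
      obtain ⟨y, hy⟩ := Ext.covariant_sequence_exact₃ _ hE (Ext.mk₀ φ) (zero_add 1)
        ((h W hW 0).elim _ _)
      obtain ⟨ψ, rfl⟩ := (Ext.mk₀_bijective _ _).2 y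
      rw [Ext.mk₀_comp_mk₀] at hy
      exact ⟨secOf ψ, isNat_secOf ψ, (secOf_comp ψ E.g).symm.trans (congrArg secOf ((Ext.mk₀_bijective _ _).1 hy))⟩
    have hQ : ∀ W ∈ S, ∀ q : ℕ, Subsingleton (Ext (Z W) E.X₃ (q + 1)) := fun W hW q =>
      subsingleton_of_forall_eq 0 fun z => by
        obtain ⟨y, rfl⟩ := Ext.covariant_sequence_exact₃ _ hE z rfl ((h W hW (q + 1)).elim _ _)
        rw [Ext.eq_zero_of_injective (I := Injective.under F) y, Ext.zero_comp]
    obtain ⟨y, hy, hdy⟩ := acyc_of_injective 𝒜 (Injective.under F) K ι L π h𝒜 (n + 1) _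
      (hx.map E.f.hom) (by rw [d_mapFam, hdx, mapFam_zero])
    obtain ⟨z, hz, hdz⟩ := ih E.X₃ hQ (mapFam E.g.hom y) (hy.map _)
      (by rw [d_mapFam, hdy]; exact mapFam_comp_zero (E := E) x)
    obtain ⟨z', hz', hzz⟩ := exists_lift_of_dec hs (hS.dec h𝒜 n) z hz
    obtain ⟨a, ha, hay⟩ := exists_preimage hE (y - d z') (hy.sub hz'.d) (by
      rw [mapFam_sub, ← d_mapFam, hzz, hdz, sub_self])
    refine ⟨a, ha, mapFam_injective hE ?_⟩
    rw [← d_mapFam, hay, d_sub, d_d, sub_zero, hdy]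

variable {Λ : Type u} [SmallCategory Λ] [IsFiltered Λ]

variable (A) in
/-- `Ext` out of `A` in degree `n` commutes with the colimit. -/
def Commutes (n : ℕ) {D : Λ ⥤ Sheaf J AddCommGrpCat.{u}} (c : Cocone D) : Prop :=
  (∀ ξ : Ext A c.pt n, ∃ (j : Λ) (η : Ext A (D.obj j) n), Emap (c.ι.app j) n η = ξ) ∧
    ∀ (j : Λ) (η : Ext A (D.obj j) n), Emap (c.ι.app j) n η = 0 →
      ∃ (k : Λ) (f : j ⟶ k), Emap (D.map f) n η = 0

include hS in
theorem commutes_zero {K : Sh J} (hK : K ∈ S) {D : Λ ⥤ Sheaf J AddCommGrpCat.{u}} {c : Cocone D}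
    (hc : IsColimit c) : Commutes (Z K) 0 c := by
  refine ⟨fun ξ => ?_, fun j η h => ?_⟩
  · obtain ⟨φ, rfl⟩ := (Ext.mk₀_bijective _ _).2 ξ
    obtain ⟨j, y, hy, hyφ⟩ := hS.exists_rep hc hK (secOf φ) (isNat_secOf φ)
    obtain ⟨ψ, rfl⟩ := exists_secOf_eq y hy
    exact ⟨j, Ext.mk₀ ψ, by rw [Emap_apply, Ext.mk₀_comp_mk₀, secOf_injective ((secOf_comp ψ _).trans hyφ)]⟩
  · obtain ⟨φ, rfl⟩ := (Ext.mk₀_bijective _ _).2 η
    rw [Emap_apply, Ext.mk₀_comp_mk₀] at h
    have h₀ : φ ≫ c.ι.app j = 0 := (Ext.mk₀_bijective _ _).1 (by rw [h, Ext.mk₀_zero])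
    obtain ⟨k, f, hf⟩ := exists_map_eq_zero hc (hS.qc K hK) j (secOf φ) (isNat_secOf φ)
      ((secOf_comp φ _).symm.trans ((congrArg secOf h₀).trans secOf_zero))
    refine ⟨k, f, ?_⟩
    rw [Emap_apply, Ext.mk₀_comp_mk₀, secOf_injective ((secOf_comp φ (D.map f)).trans (hf.trans secOf_zero.symm)),
      Ext.mk₀_zero]

theorem Commutes.of_isColimit {n : ℕ} {D : Λ ⥤ Sheaf J AddCommGrpCat.{u}} {c c' : Cocone D}
    (hc : IsColimit c) (hc' : IsColimit c') (h : Commutes A n c) : Commutes A n c' := by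
  let e := hc.coconePointUniqueUpToIso hc'
  have he : ∀ j, c.ι.app j ≫ e.hom = c'.ι.app j := fun j => hc.comp_coconePointUniqueUpToIso_hom hc' j
  refine ⟨fun ξ => ?_, fun j η hη => h.2 j η ?_⟩
  · obtain ⟨j, η, hη⟩ := h.1 (Emap e.inv n ξ)
    exact ⟨j, η, by rw [← he, map_comp_apply, hη, ← map_comp_apply, e.inv_hom_id,
      map_id_apply]⟩
  · rw [← he, map_comp_apply] at hη
    have := congrArg (Emap e.inv n) hη
    rw [← map_comp_apply, e.hom_inv_id] at this
    exact (map_id_apply _).symm.trans (this.trans (map_zero _))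

variable [HasExactColimitsOfShape Λ (Sheaf J AddCommGrpCat.{u})]

omit [IsFiltered Λ] in
/-- A diagram embeds in a pointwise injective one. -/
theorem exists_embedding (D : Λ ⥤ Sheaf J AddCommGrpCat.{u}) :
    ∃ (I : Λ ⥤ Sheaf J AddCommGrpCat.{u}) (η : D ⟶ I), Mono η ∧ ∀ k, Injective (I.obj k) := by
  let I : Λ ⥤ Sheaf J AddCommGrpCat.{u} :=
    { obj := fun k => ∏ᶜ fun p : Σ j : Λ, (k ⟶ j) => Injective.under (D.obj p.1)
      map := fun {k k'} f => Pi.lift fun p => Pi.π (fun p : Σ j : Λ, (k ⟶ j) => Injective.under (D.obj p.1))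
        ⟨p.1, f ≫ p.2⟩
      map_id := fun k => Pi.hom_ext _ _ fun ⟨j, g⟩ => by
        rw [Pi.lift_π, Category.id_comp]
        dsimp only
        rw [Category.id_comp]
      map_comp := fun {a b d} f g => Pi.hom_ext _ _ fun ⟨j, h⟩ => by
        simp
        congr 2
        exact Category.assoc _ _ _ }
  let η : D ⟶ I :=
    { app := fun k => Pi.lift fun p => D.map p.2 ≫ Injective.ι (D.obj p.1)
      naturality := fun k k' f => Pi.hom_ext _ _ fun ⟨j, h⟩ => by
        simp only [I, Category.assoc, Pi.lift_π, D.map_comp] }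
  refine ⟨I, η, ?_, fun k => inferInstanceAs (Injective (∏ᶜ fun p : Σ j : Λ, (k ⟶ j) => Injective.under (D.obj p.1)))⟩
  haveI : ∀ k, Mono (η.app k) := fun k => by
    have e : η.app k ≫ Pi.π (fun p : Σ j : Λ, (k ⟶ j) => Injective.under (D.obj p.1)) ⟨k, 𝟙 k⟩ =
        Injective.ι (D.obj k) := by simp [η, I]
    exact mono_of_mono_fac e
  exact NatTrans.mono_of_mono_app η

include hS in
theorem commutes {K : Sh J} (hK : K ∈ S) (n : ℕ) (D : Λ ⥤ Sheaf J AddCommGrpCat.{u}) (c : Cocone D) (hc : IsColimit c) :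
    Commutes (Z K) n c := by
  induction n generalizing D with
  | zero => exact commutes_zero hS hK hc
  | succ n ih =>
    refine Commutes.of_isColimit (colimit.isColimit D) hc ?_
    clear hc c
    obtain ⟨I, η, hη, hI⟩ := exists_embedding D
    let Q := cokernel η
    let π : I ⟶ Q := cokernel.π η
    let E := ShortComplex.mk η π (cokernel.condition η)
    have hE : E.ShortExact :=
      { exact := ShortComplex.exact_of_g_is_cokernel _ (cokernelIsCokernel _) }
    haveI : PreservesFiniteLimits (colim (J := Λ) (C := Sheaf J AddCommGrpCat.{u})) :=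
      HasExactColimitsOfShape.preservesFiniteLimits
    have hEc : (E.map colim).ShortExact := hE.map_of_exact _
    have hEk : ∀ k, (E.map ((evaluation Λ _).obj k)).ShortExact := fun k => hE.map_of_exact _
    let δ : ∀ k, Ext (Z K) (Q.obj k) n → Ext (Z K) (D.obj k) (n + 1) := fun k y => y.comp (hEk k).extClass rfl
    let δc : Ext (Z K) (colimit Q) n → Ext (Z K) (colimit D) (n + 1) := fun y => y.comp hEc.extClass rfl
    have hnat : ∀ k (y : Ext (Z K) (Q.obj k) n),
        Emap (colimit.ι D k) (n + 1) (δ k y) = δc (Emap (colimit.ι Q k) n y) := fun k y => by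
      let φ : E.map ((evaluation Λ _).obj k) ⟶ E.map colim :=
        { τ₁ := colimit.ι D k
          τ₂ := colimit.ι I k
          τ₃ := colimit.ι Q k
          comm₁₂ := (colimit.ι_map η k)
          comm₂₃ := (colimit.ι_map π k) }
      show (y.comp (hEk k).extClass rfl).comp (Ext.mk₀ φ.τ₁) (add_zero (n + 1)) =
        (y.comp (Ext.mk₀ φ.τ₃) (add_zero n)).comp hEc.extClass rfl
      exact (Ext.comp_assoc_of_third_deg_zero _ _ _ _).trans ((congrArg (fun z => y.comp z rfl)
        (ShortComplex.ShortExact.extClass_naturality (hEk k) hEc φ)).trans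
          (Ext.comp_assoc_of_second_deg_zero _ _ _ _).symm)
    have htrans : ∀ {k m} (f : k ⟶ m) (y : Ext (Z K) (Q.obj k) n),
        Emap (D.map f) (n + 1) (δ k y) = δ m (Emap (Q.map f) n y) := fun {k m} f y => by
      let φ : E.map ((evaluation Λ _).obj k) ⟶ E.map ((evaluation Λ _).obj m) :=
        { τ₁ := D.map f
          τ₂ := I.map f
          τ₃ := Q.map f
          comm₁₂ := η.naturality f
          comm₂₃ := π.naturality f }
      show (y.comp (hEk k).extClass rfl).comp (Ext.mk₀ φ.τ₁) (add_zero (n + 1)) =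
        (y.comp (Ext.mk₀ φ.τ₃) (add_zero n)).comp (hEk m).extClass rfl
      exact (Ext.comp_assoc_of_third_deg_zero _ _ _ _).trans ((congrArg (fun z => y.comp z rfl)
        (ShortComplex.ShortExact.extClass_naturality (hEk k) (hEk m) φ)).trans
          (Ext.comp_assoc_of_second_deg_zero _ _ _ _).symm)
    haveI := subsingleton_H_of_acyc hS hK n (colimit I)
      (acyc_colimit hS (colimit.isColimit I) fun k => haveI := hI k; acyc_of_injective 𝒜 _)
    obtain ⟨hQ₁, hQ₂⟩ := ih Q (colimit.cocone _) (colimit.isColimit _)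
    obtain ⟨hI₁, -⟩ := ih I (colimit.cocone _) (colimit.isColimit _)
    refine ⟨fun ξ => ?_, fun j ξ hξ => ?_⟩
    · obtain ⟨y, rfl⟩ := Ext.covariant_sequence_exact₁ _ hEc ξ
        (Subsingleton.elim (α := Ext (Z K) (colimit I) (n + 1)) _ _) rfl
      obtain ⟨j, y', rfl⟩ := hQ₁ y
      exact ⟨j, δ j y', hnat j y'⟩
    · haveI : Injective (E.map ((evaluation Λ _).obj j)).X₂ := hI j
      obtain ⟨y, rfl⟩ : ∃ y : Ext (Z K) (Q.obj j) n, δ j y = ξ :=
        Ext.covariant_sequence_exact₁ _ (hEk j) ξ (Ext.eq_zero_of_injective _) rfl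
      obtain ⟨θ, hθ⟩ := Ext.covariant_sequence_exact₃ _ hEc (Emap (colimit.ι Q j) n y) rfl
        ((hnat j y).symm.trans hξ)
      obtain ⟨k, θ', hθ'⟩ := hI₁ θ
      let m := IsFiltered.max j k
      let a := IsFiltered.leftToMax j k
      let b := IsFiltered.rightToMax j k
      let z : Ext (Z K) (Q.obj m) n := Emap (Q.map a) n y - Emap (π.app k ≫ Q.map b) n θ'
      have hz : Emap (colimit.ι Q m) n z = 0 := by
        rw [map_sub, ← map_comp_apply, ← map_comp_apply, Category.assoc, colimit.w, colimit.w,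
          ← colimit.ι_map π k, map_comp_apply, sub_eq_zero]
        exact hθ.symm.trans (congrArg (Emap (colim.map π) n) hθ'.symm)
      obtain ⟨r, g, hg⟩ := hQ₂ m z hz
      refine ⟨r, a ≫ g, ?_⟩
      have e : Emap (Q.map (a ≫ g)) n y = Emap (π.app r) n (Emap (I.map (b ≫ g)) n θ') := by
        rw [← map_comp_apply, π.naturality, ← sub_eq_zero]
        refine Eq.trans ?_ hg
        show _ = Emap (Q.map g) n (Emap (Q.map a) n y - Emap (π.app k ≫ Q.map b) n θ')
        rw [map_sub, ← map_comp_apply, ← map_comp_apply, Category.assoc, ← Q.map_comp, ← Q.map_comp]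
      refine (htrans (a ≫ g) y).trans ((congrArg (δ r) e).trans ?_)
      exact (Ext.comp_assoc_of_second_deg_zero _ _ _ _).trans
        ((congrArg (fun z => (Emap (I.map (b ≫ g)) n θ').comp z rfl) (hEk r).comp_extClass).trans
          (Ext.comp_zero _ _ _ _ _))

end Groth.L09.CohColim
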