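import Groth.Agent.L09.CohColim.Functors
import Mathlib.CategoryTheory.Limits.Shapes.BinaryProducts

/-!
Cohomology of a topos with a class of quasi-compact objects which covers its products and equalizers.
-/

set_option autoImplicit false
set_option linter.style.haveILetI false
universe u

open CategoryTheory CategoryTheory.Limits Opposite ToposFin Groth.L09.Topos

namespace Groth.L09.CohColim

variable {C : Type u} [SmallCategory C] {J : GrothendieckTopology C}

theorem isQC_of_isQcObject {K : Sh J} (h : CohCx.IsQcObject K) : IsQC K := by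
  have key : ∀ {ι : Type u} {F : ι → Sh J} {π : ∀ i, F i ⟶ K},
      Covers π ↔ CohCx.JointlySurjective π := by
    intro ι F π
    rw [covers_iff_sieveOf]
    refine ⟨fun h U s => ⟨sieveOf π (U := op U) s, h (op U) s, fun V g hg => (sieveOf_apply _ g).1 hg⟩,
      fun h U s => ?_⟩
    obtain ⟨S, hS, hS'⟩ := h U.unop s
    exact J.superset_covering (fun V g hg => (sieveOf_apply _ g).2 (hS' V g hg)) hS
  refine isQC_iff.2 fun ι F π hπ => ?_
  obtain ⟨t, ht⟩ := h ι F π (key.1 hπ)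
  exact ⟨t, (covers_iff_sieveOf _).2 fun U s => by
    obtain ⟨S, hS, hS'⟩ := ht U.unop s
    exact J.superset_covering (fun V g hg => (sieveOf_apply _ g).2 (hS' V g hg)) hS⟩

/-- Covered by a single member. -/
def Cvd (S : Set (Sh J)) (X : Sh J) : Prop := ∃ (K : Sh J) (g : K ⟶ X), K ∈ S ∧ Epi g

theorem Cvd.of_epi {S : Set (Sh J)} {X Y : Sh J} (f : X ⟶ Y) [Epi f] (h : Cvd S X) : Cvd S Y := by
  obtain ⟨K, g, hK, hg⟩ := h
  exact ⟨K, g ≫ f, hK, epi_comp g f⟩

/-- Covered, with covered equalizers of pairs of maps from members. -/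
def covSet (S : Set (Sh J)) : Set (Sh J) :=
  {X | Cvd S X ∧ ∀ K ∈ S, ∀ a b : K ⟶ X, Cvd S (equalizer a b)}

/-- A member covering an equalizer gives a member mapping epimorphically onto it. -/
theorem cvd_equalizer_comp {S : Set (Sh J)} {K X Y : Sh J} (a b : K ⟶ X) (c : K ⟶ Y) (d : K ⟶ Y)
    (h : Cvd S (equalizer a b)) (h' : ∀ E ∈ S, ∀ x y : E ⟶ Y, Cvd S (equalizer x y)) {Z : Sh J}
    (z : Z ⟶ K) [Mono z] (hz : z ≫ a = z ≫ b ∧ z ≫ c = z ≫ d)
    (huniv : ∀ {T : Sh J} (t : T ⟶ K), t ≫ a = t ≫ b → t ≫ c = t ≫ d → ∃ s : T ⟶ Z, s ≫ z = t) :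
    Cvd S Z := by
  obtain ⟨E, g, hE, hg⟩ := h
  obtain ⟨E', g', hE', hg'⟩ := h' E hE (g ≫ equalizer.ι a b ≫ c) (g ≫ equalizer.ι a b ≫ d)
  let m := equalizer.ι (g ≫ equalizer.ι a b ≫ c) (g ≫ equalizer.ι a b ≫ d)
  have hme : m ≫ (g ≫ equalizer.ι a b ≫ c) = m ≫ (g ≫ equalizer.ι a b ≫ d) :=
    equalizer.condition (g ≫ equalizer.ι a b ≫ c) (g ≫ equalizer.ι a b ≫ d)
  obtain ⟨s, hs⟩ := huniv (m ≫ g ≫ equalizer.ι a b)
    (by simp only [Category.assoc]; rw [equalizer.condition a b])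
    (by simpa only [Category.assoc] using hme)
  let w : Z ⟶ equalizer a b := equalizer.lift z hz.1
  have hw : w ≫ equalizer.ι a b = z := equalizer.lift_ι z hz.1
  have : Mono w := mono_of_mono_fac hw
  have hsw : s ≫ w = m ≫ g := by
    rw [← cancel_mono (equalizer.ι a b), Category.assoc, hw, hs, Category.assoc]
  have sq : IsPullback s m w g := by
    refine IsPullback.of_isLimit' ⟨hsw⟩ (PullbackCone.IsLimit.mk _
      (fun t => equalizer.lift t.snd (by
        have h₀ : t.fst ≫ z = t.snd ≫ g ≫ equalizer.ι a b := by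
          rw [← hw, ← Category.assoc, t.condition, Category.assoc]
        have h₁ := congrArg (t.fst ≫ ·) hz.2
        simp only [← Category.assoc, h₀] at h₁
        simpa only [Category.assoc] using h₁))
      (fun t => by
        rw [← cancel_mono w, Category.assoc, hsw]
        exact (equalizer.lift_ι_assoc _ _ _).trans t.condition.symm)
      (fun t => equalizer.lift_ι _ _) fun t q _ hq => equalizer.hom_ext (hq.trans (equalizer.lift_ι _ _).symm))
  have : Epi s := by
    have hc := covers_of_isPullback (covers_of_epi.{u} g) (f := w) (P := fun _ => _) (a := fun _ => s)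
      (b := fun _ => m) fun _ => sq
    exact epi_of_covers s hc
  exact ⟨E', g' ≫ s, hE', epi_comp g' s⟩

theorem covSet_pullback {S : Set (Sh J)}
    (h3 : ∀ K ∈ S, ∀ K' ∈ S, ∃ (K'' : Sh J) (g : K'' ⟶ K ⨯ K'), K'' ∈ S ∧ Epi g)
    {X Y Z : Sh J} (f : X ⟶ Z) (g : Y ⟶ Z) (hX : X ∈ covSet S) (hY : Y ∈ covSet S) (hZ : Z ∈ covSet S) :
    pullback f g ∈ covSet S := by
  refine ⟨?_, fun K hK a b => ?_⟩
  · obtain ⟨A, p, hA, hp⟩ := hX.1
    obtain ⟨B, q, hB, hq⟩ := hY.1
    obtain ⟨M, m, hM, hm⟩ := h3 A hA B hB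
    obtain ⟨E, e, hE, he⟩ := hZ.2 M hM (m ≫ prod.fst ≫ p ≫ f) (m ≫ prod.snd ≫ q ≫ g)
    let ι' := equalizer.ι (m ≫ prod.fst ≫ p ≫ f) (m ≫ prod.snd ≫ q ≫ g)
    have hι' : ι' ≫ m ≫ prod.fst ≫ p ≫ f = ι' ≫ m ≫ prod.snd ≫ q ≫ g :=
      equalizer.condition (m ≫ prod.fst ≫ p ≫ f) (m ≫ prod.snd ≫ q ≫ g)
    let r₁ := pullback.lift (f := p ≫ f) (g := q ≫ g) (ι' ≫ m ≫ prod.fst) (ι' ≫ m ≫ prod.snd)
      (by simpa only [Category.assoc] using hι')
    let w' : pullback (p ≫ f) (q ≫ g) ⟶ A ⨯ B := prod.lift (pullback.fst _ _) (pullback.snd _ _)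
    have hrw : r₁ ≫ w' = ι' ≫ m := prod.hom_ext
      (by simp only [w', r₁, Category.assoc, prod.lift_fst, pullback.lift_fst])
      (by simp only [w', r₁, Category.assoc, prod.lift_snd, pullback.lift_snd])
    have : Mono w' := ⟨fun x y e => pullback.hom_ext
      (by have := congrArg (· ≫ prod.fst) e; simp only [w', Category.assoc, prod.lift_fst] at this; exact this)
      (by have := congrArg (· ≫ prod.snd) e; simp only [w', Category.assoc, prod.lift_snd] at this; exact this)⟩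
    have sq : IsPullback r₁ ι' w' m := by
      refine IsPullback.of_isLimit' ⟨hrw⟩ (PullbackCone.IsLimit.mk _
        (fun t => equalizer.lift t.snd (by
          have h₁ : t.snd ≫ m ≫ prod.fst = t.fst ≫ pullback.fst _ _ := by
            rw [← Category.assoc, ← t.condition, Category.assoc, prod.lift_fst]
          have h₂ : t.snd ≫ m ≫ prod.snd = t.fst ≫ pullback.snd _ _ := by
            rw [← Category.assoc, ← t.condition, Category.assoc, prod.lift_snd]
          rw [reassoc_of% h₁, reassoc_of% h₂]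
          exact congrArg (t.fst ≫ ·) pullback.condition))
        (fun t => by
          rw [← cancel_mono w', Category.assoc, hrw]
          exact (equalizer.lift_ι_assoc _ _ _).trans t.condition.symm)
        (fun t => equalizer.lift_ι _ _) fun t x _ hx => equalizer.hom_ext (hx.trans (equalizer.lift_ι _ _).symm))
    haveI : Epi r₁ := epi_of_covers r₁ (covers_of_isPullback (covers_of_epi.{u} m) (f := w') (P := fun _ => _)
      (a := fun _ => r₁) (b := fun _ => ι') fun _ => sq)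
    haveI : Epi (pullback.map (p ≫ f) (q ≫ g) f g p q (𝟙 Z) (Category.comp_id _) (Category.comp_id _)) :=
      epi_of_covers.{u} _ (covers_of_factor (covers_pullback_map (covers_of_epi.{u} p) (covers_of_epi.{u} q) f g)
        fun i => ⟨PUnit.unit, 𝟙 _, Category.id_comp _⟩)
    exact Cvd.of_epi (r₁ ≫ pullback.map (p ≫ f) (q ≫ g) f g p q (𝟙 Z) (Category.comp_id _) (Category.comp_id _))
      ⟨E, e, hE, he⟩
  · exact cvd_equalizer_comp (a ≫ pullback.fst f g) (b ≫ pullback.fst f g) (a ≫ pullback.snd f g)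
      (b ≫ pullback.snd f g) (hX.2 K hK _ _) hY.2 (equalizer.ι a b)
      ⟨equalizer.condition_assoc a b _, equalizer.condition_assoc a b _⟩
      fun t h₁ h₂ => ⟨equalizer.lift t (pullback.hom_ext (by simpa using h₁) (by simpa using h₂)),
        equalizer.lift_ι _ _⟩

/-- Such a class gives a good class of objects. -/
theorem good_covSet {S : Set (Sh J)}
    (h2 : ∀ (F : Sh J) (K : Sh J) (g : F ⟶ K), K ∈ S → Epi g → ∃ (K' : Sh J) (k : K' ⟶ F), K' ∈ S ∧ Epi (k ≫ g))
    (h3 : ∀ K ∈ S, ∀ K' ∈ S, ∃ (K'' : Sh J) (g : K'' ⟶ K ⨯ K'), K'' ∈ S ∧ Epi g)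
    (h4 : ∀ K ∈ S, ∀ K' ∈ S, ∀ (a b : K ⟶ K'), ∃ (K'' : Sh J) (g : K'' ⟶ equalizer a b), K'' ∈ S ∧ Epi g)
    (h5 : ∀ K ∈ S, IsQC K) : Good (covSet S) (allAdm (covSet S)) where
  qc X hX := by
    obtain ⟨K, g, hK, hg⟩ := hX.1
    exact isQC_of_epi g (h5 K hK)
  covers h := h
  dec {K ι L π} h n := by
    haveI := h.2.1
    exact dec_TS π (fun A B M f g hA hB hM =>
      ⟨pullback f g, _, _, covSet_pullback h3 f g hA hB hM, IsPullback.of_hasPullback f g⟩) h.1 h.2.2.1 n
  refine_epi X hX F g hg := by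
    obtain ⟨K, p, hK, hp⟩ := hX.1
    haveI : Epi (pullback.fst p g) := epi_of_covers.{u} _ (covers_pullback_fst (covers_of_epi.{u} g) p)
    obtain ⟨K', k, hK', hk⟩ := h2 _ K (pullback.fst p g) hK inferInstance
    haveI := hk
    have hK'' : K' ∈ covSet S := ⟨⟨K', 𝟙 K', hK', inferInstance⟩, fun E hE a b => h4 E hE K' hK' a b⟩
    refine ⟨PUnit, fun _ => K', fun _ => (k ≫ pullback.fst p g) ≫ p,
      ⟨hX, inferInstance, fun _ => hK'', covers_of_epi _⟩, fun _ => ⟨k ≫ pullback.snd p g, ?_⟩⟩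
    rw [Category.assoc, ← pullback.condition, ← Category.assoc]

theorem terminal_mem_covSet {S : Set (Sh J)} (h1 : ∃ K ∈ S, Epi (terminal.from K)) :
    (⊤_ (Sh J)) ∈ covSet S := by
  obtain ⟨K, hK, hg⟩ := h1
  refine ⟨⟨K, terminal.from K, hK, hg⟩, fun E hE a b => ?_⟩
  haveI : IsIso (equalizer.ι a b) := equalizer.ι_of_eq (terminal.hom_ext a b)
  exact ⟨E, inv (equalizer.ι a b), hE, inferInstance⟩

end Groth.L09.CohColim
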