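import Groth.Agent.L09.CohColim.Push
import Mathlib.CategoryTheory.Sites.LocallyBijective
import Mathlib.CategoryTheory.Limits.FunctorCategory.Basic

/-!
A colimit of presheaves which is locally preserved is preserved after sheafification.
-/

set_option autoImplicit false
set_option linter.style.haveILetI false
universe u

open CategoryTheory CategoryTheory.Limits Opposite

namespace Groth.L09.CohColim

variable {C : Type u} [SmallCategory C] {J : GrothendieckTopology C}
  {D : Type u} [SmallCategory D] (K : GrothendieckTopology D) {ι : Type u} [SmallCategory ι]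

/-- If every object has a covering on which a functor to presheaves preserves a colimit, then the sheafified
functor preserves it. -/
theorem preservesColimit_of_local {A : Type (u + 1)} [Category.{u} A] (H : A ⥤ Dᵒᵖ ⥤ AddCommGrpCat.{u})
    (F : ι ⥤ A) (h : ∀ V : D, ∃ (κ : Type u) (Y : κ → D) (g : ∀ k, Y k ⟶ V), Sieve.ofArrows Y g ∈ K V ∧
      ∀ k, PreservesColimit F (H.flip.obj (op (Y k)))) :
    PreservesColimit F (H ⋙ presheafToSheaf K AddCommGrpCat.{u}) := by
  refine ⟨fun {c} hc => ⟨?_⟩⟩
  let P := colimit.cocone (F ⋙ H)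
  let τ : P.pt ⟶ H.obj c.pt := colimit.desc (F ⋙ H) (H.mapCocone c)
  have hY : ∀ (V : D), PreservesColimit F (H.flip.obj (op V)) → IsIso (τ.app (op V)) := fun V hV => by
    let E₁ : IsColimit (((evaluation Dᵒᵖ AddCommGrpCat.{u}).obj (op V)).mapCocone P) :=
      isColimitOfPreserves _ (colimit.isColimit _)
    let E₂ : IsColimit ((H.flip.obj (op V)).mapCocone c) := isColimitOfPreserves _ hc
    have : τ.app (op V) = (E₁.coconePointUniqueUpToIso (IsColimit.ofIsoColimit E₂
        (Cocone.ext (Iso.refl _) fun j => by simp) : IsColimit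
          (((evaluation Dᵒᵖ AddCommGrpCat.{u}).obj (op V)).mapCocone (H.mapCocone c)))).hom := by
      refine E₁.hom_ext fun j => ?_
      rw [IsColimit.comp_coconePointUniqueUpToIso_hom]
      exact NatTrans.congr_app (colimit.ι_desc (H.mapCocone c) j) (op V)
    rw [this]
    infer_instance
  haveI : Presheaf.IsLocallySurjective K τ := ⟨fun {V} x => by
    obtain ⟨κ, Ys, g, hg, hk⟩ := h V
    refine K.superset_covering ?_ hg
    intro W f hf
    obtain ⟨_, l, _, ⟨k⟩, rfl⟩ := hf
    haveI := hY (Ys k) (hk k)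
    obtain ⟨z, hz⟩ := ((AddCommGrpCat.epi_iff_surjective (τ.app (op (Ys k)))).1 inferInstance)
      ((H.obj c.pt).map (g k).op x)
    refine ⟨P.pt.map l.op z, ?_⟩
    exact (NatTrans.naturality_apply τ l.op z).trans
      ((congrArg ((H.obj c.pt).map l.op) hz).trans (Functor.map_comp_apply _ (g k).op l.op x).symm)⟩
  haveI : Presheaf.IsLocallyInjective K τ := ⟨fun {V} x y e => by
    obtain ⟨κ, Ys, g, hg, hk⟩ := h V.unop
    refine K.superset_covering ?_ hg
    intro W f hf
    obtain ⟨_, l, _, ⟨k⟩, rfl⟩ := hf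
    haveI := hY (Ys k) (hk k)
    have := ((AddCommGrpCat.mono_iff_injective (τ.app (op (Ys k)))).1 inferInstance)
      (a₁ := P.pt.map (g k).op x) (a₂ := P.pt.map (g k).op y)
      ((NatTrans.naturality_apply τ (g k).op x).trans ((congrArg ((H.obj c.pt).map (g k).op) e).trans
        (NatTrans.naturality_apply τ (g k).op y).symm))
    show P.pt.map (l ≫ g k).op x = P.pt.map (l ≫ g k).op y
    rw [op_comp, Functor.map_comp_apply, Functor.map_comp_apply, this]⟩
  haveI : IsIso ((presheafToSheaf K AddCommGrpCat.{u}).map τ) :=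
    (K.W_iff τ).1 (K.W_of_isLocallyBijective τ)
  exact IsColimit.ofIsoColimit (isColimitOfPreserves (presheafToSheaf K AddCommGrpCat.{u}) (colimit.isColimit (F ⋙ H)))
    (Cocone.ext (asIso ((presheafToSheaf K AddCommGrpCat.{u}).map τ)) fun j =>
      ((presheafToSheaf K AddCommGrpCat.{u}).map_comp _ _).symm.trans
        (congrArg (presheafToSheaf K AddCommGrpCat.{u}).map (colimit.ι_desc (H.mapCocone c) j)))

/-- Local criterion for higher direct images to preserve a colimit. -/
theorem preservesColimit_Rpush_of_local (u : D ⥤ C) [u.IsContinuous K J] (F : ι ⥤ Sheaf J AddCommGrpCat.{u}) (n : ℕ)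
    (h : ∀ V : D, ∃ (κ : Type u) (Y : κ → D) (g : ∀ k, Y k ⟶ V), Sieve.ofArrows Y g ∈ K V ∧
      ∀ k, PreservesColimit F ((Sheaf.cohomologyPresheafFunctor J n).flip.obj (op (u.obj (Y k))))) :
    PreservesColimit F (CohSite.Rpush J K u n) := by
  obtain ⟨e⟩ := nonempty_Rpush_natIso (J := J) K u n
  haveI := preservesColimit_of_local K
    (Sheaf.cohomologyPresheafFunctor J n ⋙ (Functor.whiskeringLeft _ _ AddCommGrpCat.{u}).obj u.op) F h
  exact preservesColimit_of_natIso F e.symm

end Groth.L09.CohColim
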