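import Groth.Agent.L09.CohColim.Functors
import Groth.Agent.L09.ToposEps
import Groth.Agent.L10.SiteRightDerived

/-!
Higher direct images along coherent morphisms preserve filtered colimits.
-/

set_option autoImplicit false
set_option linter.style.haveILetI false
set_option backward.defeqAttrib.useBackward true
set_option backward.isDefEq.respectTransparency false
universe u

open CategoryTheory CategoryTheory.Limits Opposite CategoryTheory.Abelian ToposFin Groth.L09.Topos
open Groth.L10.SiteCoh

namespace Groth.L09.CohColim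

variable {C : Type u} [SmallCategory C] {J : GrothendieckTopology C}

theorem toCoh_natural {F G : Sheaf J AddCommGrpCat.{u}} {f : F ⟶ G} {R : InjectiveResolution F}
    {R' : InjectiveResolution G} (φ : InjectiveResolution.Hom R R' f) (n : ℕ) :
    HomologicalComplex.cyclesMap
        (((sheafToPresheaf J AddCommGrpCat.{u}).mapHomologicalComplex _).map φ.hom) n ≫ toCoh R' n =
      toCoh R n ≫ (Sheaf.cohomologyPresheafFunctor J n).map f := by
  refine NatTrans.ext (funext fun U => AddCommGrpCat.hom_ext (AddMonoidHom.ext fun x => ?_))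
  refine Eq.trans ?_ (InjectiveResolution.extMk_comp_mk₀ _ (n + 1) rfl (comp_d_eq_zero R U x) φ).symm
  refine extMk_congr R' n (ha := comp_d_eq_zero R' U _) ((secEquiv J U.unop _).injective ?_)
  rw [AddEquiv.apply_symm_apply, secEquiv_comp, AddEquiv.apply_symm_apply]
  exact congr($(congr_app (HomologicalComplex.cyclesMap_i
    (((sheafToPresheaf J AddCommGrpCat.{u}).mapHomologicalComplex _).map φ.hom) n) U) x)

/-- The comparison map from homology to cohomology presheaves. -/
theorem exists_homDesc {F : Sheaf J AddCommGrpCat.{u}} (R : InjectiveResolution F) (n : ℕ) :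
    ∃ θ : (pcx R).homology (n + 1) ⟶ (Sheaf.cohomologyPresheafFunctor J (n + 1)).obj F,
      IsIso θ ∧ (pcx R).homologyπ (n + 1) ≫ θ = toCoh R (n + 1) := by
  let φ := toCoh R (n + 1)
  have hz : (pcx R).toCycles n (n+1) ≫ φ = 0 := by
    ext U : 2
    refine AddCommGrpCat.hom_ext (AddMonoidHom.ext fun y => ?_)
    refine (R.extMk_eq_zero_iff _ (n+2) rfl (comp_d_eq_zero R U _) n rfl).2
      ⟨(secEquiv J U.unop _).symm y, (secEquiv J U.unop _).injective ?_⟩
    rw [secEquiv_comp, AddEquiv.apply_symm_apply, AddEquiv.apply_symm_apply]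
    exact congr($(congr_app ((pcx R).toCycles_i n (n+1)).symm U) y)
  have hepi : Epi φ := by
    have : ∀ U, Epi (φ.app U) := fun U => by
      rw [AddCommGrpCat.epi_iff_surjective]
      intro ξ
      obtain ⟨f, hf, rfl⟩ := R.extMk_surjective ξ (n+2) rfl
      have hk : ((ShortComplex.mk _ _ ((pcx R).iCycles_d (n+1) (n+2))).map
          ((evaluation _ _).obj U)).Exact :=
        (ShortComplex.exact_of_f_is_kernel _ ((pcx R).cyclesIsKernel (n+1) (n+2) (by simp))).map _
      rw [ShortComplex.ab_exact_iff] at hk
      obtain ⟨x, hx⟩ := hk (secEquiv J U.unop _ f) (by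
        change (R.cocomplex.d (n+1) (n+2)).hom.app U _ = _
        rw [← secEquiv_comp, hf, map_zero])
      exact ⟨x, extMk_congr R _ (ha := comp_d_eq_zero R U x)
        ((secEquiv J U.unop _).injective (by rw [AddEquiv.apply_symm_apply]; exact hx))⟩
    exact NatTrans.epi_of_epi_app _
  have hex : (ShortComplex.mk _ _ hz).Exact := by
    rw [ShortComplex.exact_iff_isZero_homology]
    refine Functor.isZero _ fun U => ?_
    refine IsZero.of_iso ?_ ((ShortComplex.mk _ _ hz).mapHomologyIso ((evaluation _ _).obj U)).symm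
    rw [← ShortComplex.exact_iff_isZero_homology, ShortComplex.ab_exact_iff]
    intro x hx
    obtain ⟨g, hg⟩ := (R.extMk_eq_zero_iff _ (n+2) rfl (comp_d_eq_zero R U x) n rfl).1 hx
    refine ⟨secEquiv J U.unop _ g, ?_⟩
    have : Mono (((pcx R).iCycles (n+1)).app U) := inferInstance
    apply (AddCommGrpCat.mono_iff_injective _).1 this
    refine (congr($(congr_app ((pcx R).toCycles_i n (n+1)) U) _)).trans ?_
    change (R.cocomplex.d n (n+1)).hom.app U _ = _
    rw [← secEquiv_comp, hg, AddEquiv.apply_symm_apply]
  exact ⟨(((pcx R).homologyIsCokernel n (n+1) (by simp)).coconePointUniqueUpToIso hex.gIsCokernel).hom,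
    inferInstance, ((pcx R).homologyIsCokernel n (n+1) (by simp)).comp_coconePointUniqueUpToIso_hom
      hex.gIsCokernel WalkingParallelPair.one⟩

/-- The right derived functors of `sheafToPresheaf` are the cohomology presheaf functors. -/
theorem nonempty_rightDerived_natIso (n : ℕ) :
    Nonempty ((sheafToPresheaf J AddCommGrpCat.{u}).rightDerived (n + 1) ≅
      Sheaf.cohomologyPresheafFunctor J (n + 1)) := by
  choose θ hθ₁ hθ₂ using fun F : Sheaf J AddCommGrpCat.{u} => exists_homDesc (injectiveResolution F) n
  refine ⟨NatIso.ofComponents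
    (fun F => (injectiveResolution F).isoRightDerivedObj _ (n + 1) ≪≫ @asIso _ _ _ _ (θ F) (hθ₁ F))
    fun {F G} f => ?_⟩
  let φ : InjectiveResolution.Hom (injectiveResolution F) (injectiveResolution G) f :=
    ⟨InjectiveResolution.desc f (injectiveResolution G) (injectiveResolution F),
      HomologicalComplex.congr_hom (InjectiveResolution.desc_commutes f _ _) 0⟩
  simp only [Iso.trans_hom, asIso_hom, Category.assoc]
  rw [InjectiveResolution.isoRightDerivedObj_hom_naturality_assoc f (injectiveResolution F)
    (injectiveResolution G) φ.hom (InjectiveResolution.desc_commutes_zero f _ _) _ (n + 1)]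
  congr 1
  rw [← cancel_epi ((pcx (injectiveResolution F)).homologyπ (n + 1))]
  dsimp only [Functor.comp_map, HomologicalComplex.homologyFunctor_map]
  erw [HomologicalComplex.homologyπ_naturality_assoc, hθ₂, reassoc_of% (hθ₂ F)]
  exact toCoh_natural φ (n + 1)

theorem preservesColimitsOfShape_cohomologyPresheaf {D : Type u} [SmallCategory D] (K : GrothendieckTopology D)
    (u : D ⥤ C) {S : Set (Sh J)} (hS : GoodSet S) (hu : ∀ V : D, eps J (u.obj V) ∈ S)
    (Λ : Type u) [SmallCategory Λ] [IsFiltered Λ] (n : ℕ) :
    PreservesColimitsOfShape Λ (Sheaf.cohomologyPresheafFunctor J n ⋙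
      (Functor.whiskeringLeft _ _ AddCommGrpCat.{u}).obj u.op ⋙ presheafToSheaf K AddCommGrpCat.{u}) := by
  haveI : PreservesColimitsOfShape Λ (Sheaf.cohomologyPresheafFunctor J n ⋙
      (Functor.whiskeringLeft _ _ AddCommGrpCat.{u}).obj u.op) :=
    preservesColimitsOfShape_of_evaluation _ _ fun V =>
      (preservesColimitsOfShape_of_commutes (Λ := Λ) (fs J (u.obj V.unop)) n fun D c hc =>
        (commutes_HK hS (hu V.unop) n D c hc).of_iso (freeSheafifyIso (yoneda.obj (u.obj V.unop))) :)
  exact (inferInstance : PreservesColimitsOfShape Λ ((Sheaf.cohomologyPresheafFunctor J n ⋙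
    (Functor.whiskeringLeft _ _ AddCommGrpCat.{u}).obj u.op) ⋙ presheafToSheaf K AddCommGrpCat.{u}))

/-- In every degree. -/
theorem nonempty_rightDerived_natIso' (n : ℕ) :
    Nonempty ((sheafToPresheaf J AddCommGrpCat.{u}).rightDerived n ≅ Sheaf.cohomologyPresheafFunctor J n) := by
  cases n with
  | zero =>
    refine ⟨(sheafToPresheaf J AddCommGrpCat.{u}).rightDerivedZeroIsoSelf ≪≫
      NatIso.ofComponents (fun F => cohZeroIso F) fun {F G} f => ?_⟩
    refine NatTrans.ext (funext fun U => AddCommGrpCat.hom_ext (AddMonoidHom.ext fun s => ?_))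
    show (hu0 G U.unop).symm (f.hom.app U s) = ((hu0 F U.unop).symm s).comp (Ext.mk₀ f) (add_zero 0)
    apply (hu0 G U.unop).injective
    rw [hu0_comp, AddEquiv.apply_symm_apply, AddEquiv.apply_symm_apply]
  | succ n => exact nonempty_rightDerived_natIso n

/-- Right derived functors of a composite with an exact functor, naturally. -/
theorem nonempty_rightDerived_comp_natIso {A : Type*} [Category A] [Abelian A] [HasInjectiveResolutions A]
    {B E : Type*} [Category B] [Abelian B] [Category E] [Abelian E] (F : A ⥤ B) [F.Additive] (G : B ⥤ E)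
    [G.Additive] [PreservesFiniteLimits G] [PreservesFiniteColimits G] (n : ℕ) :
    Nonempty ((F ⋙ G).rightDerived n ≅ F.rightDerived n ⋙ G) := by
  refine ⟨NatIso.ofComponents (fun X => (injectiveResolution X).isoRightDerivedObj (F ⋙ G) n ≪≫
    (((F.mapHomologicalComplex _).obj (injectiveResolution X).cocomplex).sc n).mapHomologyIso G ≪≫
      (G.mapIso ((injectiveResolution X).isoRightDerivedObj F n)).symm) fun {X Y} f => ?_⟩
  let φ := InjectiveResolution.desc f (injectiveResolution Y) (injectiveResolution X)
  have comm := InjectiveResolution.desc_commutes_zero f (injectiveResolution Y) (injectiveResolution X)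
  simp only [Iso.trans_hom, Iso.symm_hom, Functor.mapIso_inv, Category.assoc, Functor.comp_map]
  rw [InjectiveResolution.isoRightDerivedObj_hom_naturality_assoc f (injectiveResolution X)
    (injectiveResolution Y) φ comm (F ⋙ G) n]
  congr 1
  have h := InjectiveResolution.isoRightDerivedObj_inv_naturality f (injectiveResolution X)
    (injectiveResolution Y) φ comm F n
  rw [← Functor.map_comp, h, Functor.map_comp]
  exact ShortComplex.mapHomologyIso_hom_naturality_assoc
    ((HomologicalComplex.shortComplexFunctor B (ComplexShape.up ℕ) n).map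
      ((F.mapHomologicalComplex _).map φ)) G _

/-- Higher direct images are the sheafified cohomology presheaves, naturally. -/
theorem nonempty_Rpush_natIso {D : Type u} [SmallCategory D] (K : GrothendieckTopology D)
    (u : D ⥤ C) [u.IsContinuous K J] (n : ℕ) :
    Nonempty (CohSite.Rpush J K u n ≅ (Sheaf.cohomologyPresheafFunctor J n ⋙
      (Functor.whiskeringLeft _ _ AddCommGrpCat.{u}).obj u.op) ⋙ presheafToSheaf K AddCommGrpCat.{u}) := by
  let G : (Cᵒᵖ ⥤ AddCommGrpCat.{u}) ⥤ Sheaf K AddCommGrpCat.{u} :=
    (Functor.whiskeringLeft _ _ _).obj u.op ⋙ presheafToSheaf K _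
  haveI : PreservesFiniteLimits G := comp_preservesFiniteLimits _ _
  haveI : PreservesFiniteColimits G := comp_preservesFiniteColimits _ _
  haveI : G.Additive := Functor.additive_of_preserves_binary_products G
  let e : CohSite.push J K u ≅ sheafToPresheaf J AddCommGrpCat.{u} ⋙ G :=
    NatIso.ofComponents (fun F => (asIso ((sheafificationAdjunction K AddCommGrpCat.{u}).counit.app
      ((CohSite.push J K u).obj F))).symm)
      (fun {F F'} f => by
        simp only [Iso.symm_hom, asIso_inv]
        rw [IsIso.comp_inv_eq, Category.assoc, IsIso.eq_inv_comp]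
        exact ((sheafificationAdjunction K AddCommGrpCat.{u}).counit.naturality _).symm)
  obtain ⟨e₁⟩ := nonempty_rightDerived_comp_natIso (sheafToPresheaf J AddCommGrpCat.{u}) G n
  obtain ⟨e₂⟩ := nonempty_rightDerived_natIso' (J := J) n
  exact ⟨rightDerivedCongr e n ≪≫ e₁ ≪≫ Functor.isoWhiskerRight e₂ G⟩

theorem preservesColimitsOfShape_Rpush {D : Type u} [SmallCategory D] (K : GrothendieckTopology D)
    (u : D ⥤ C) [u.IsContinuous K J] {S : Set (Sh J)} (hS : GoodSet S) (hu : ∀ V : D, eps J (u.obj V) ∈ S)
    (Λ : Type u) [SmallCategory Λ] [IsFiltered Λ] (n : ℕ) :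
    PreservesColimitsOfShape Λ (CohSite.Rpush J K u n) := by
  obtain ⟨e⟩ := nonempty_Rpush_natIso (J := J) K u n
  haveI := preservesColimitsOfShape_cohomologyPresheaf K u hS hu Λ n
  exact preservesColimitsOfShape_of_natIso (e ≪≫ Functor.associator _ _ _).symm

end Groth.L09.CohColim
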