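import Groth.Agent.L09.CohColim.Cech
import Groth.Agent.L09.ToposFP
import Mathlib.CategoryTheory.Sites.Adjunction
import Mathlib.CategoryTheory.Sites.Limits
import Mathlib.Algebra.Category.Grp.FilteredColimits
import Mathlib.CategoryTheory.Limits.Preserves.Filtered

/-!
Sections of abelian sheaves on quasi-compact and coherent objects of a topos, and filtered colimits.
-/

set_option autoImplicit false
set_option linter.style.haveILetI false
universe u

open CategoryTheory CategoryTheory.Limits Opposite ToposFin Groth.L09.Topos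

namespace Groth.L09.CohColim

variable {C : Type u} [SmallCategory C] {J : GrothendieckTopology C}

/-- The free abelian sheaf on a sheaf of sets. -/
noncomputable abbrev Z (K : Sh J) : Sheaf J AddCommGrpCat.{u} :=
  (presheafToSheaf J AddCommGrpCat.{u}).obj (K.obj ⋙ AddCommGrpCat.free.{u})

/-- Natural families are the maps out of the free abelian sheaf. -/
noncomputable def secOf {K : Sh J} {F : Sheaf J AddCommGrpCat.{u}} (φ : Z K ⟶ F) : Fam K.obj F.obj :=
  famOf (toSheafify J (K.obj ⋙ AddCommGrpCat.free.{u}) ≫ φ.hom)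

theorem isNat_secOf {K : Sh J} {F : Sheaf J AddCommGrpCat.{u}} (φ : Z K ⟶ F) : IsNat (secOf φ) :=
  isNat_famOf _

theorem secOf_comp {K : Sh J} {F G : Sheaf J AddCommGrpCat.{u}} (φ : Z K ⟶ F) (f : F ⟶ G) :
    secOf (φ ≫ f) = mapFam f.hom (secOf φ) := rfl

theorem secOf_injective {K : Sh J} {F : Sheaf J AddCommGrpCat.{u}} :
    Function.Injective (secOf (K := K) (F := F)) := fun φ ψ h =>
  ObjectProperty.hom_ext _ (sheafify_hom_ext _ _ _ F.property (famOf_injective h))

theorem secOf_zero {K : Sh J} {F : Sheaf J AddCommGrpCat.{u}} : secOf (0 : Z K ⟶ F) = 0 := by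
  funext V s
  rfl

theorem exists_secOf_eq {K : Sh J} {F : Sheaf J AddCommGrpCat.{u}} (x : Fam K.obj F.obj) (hx : IsNat x) :
    ∃ φ : Z K ⟶ F, secOf φ = x :=
  ⟨⟨sheafifyLift J (toHom x hx) F.property⟩, by
    funext V s
    exact (congr($(toSheafify_sheafifyLift J (toHom x hx) F.property).app V (FreeAbelianGroup.of s))).trans
      (toHom_of x hx s)⟩

/-- The sheaf of sets underlying an abelian sheaf. -/
noncomputable abbrev und (J : GrothendieckTopology C) : Sheaf J AddCommGrpCat.{u} ⥤ Sh J :=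
  sheafCompose J (forget AddCommGrpCat.{u})

/-- A natural family as a morphism of sheaves of sets. -/
noncomputable def secHom {K : Sh J} {F : Sheaf J AddCommGrpCat.{u}} (x : Fam K.obj F.obj) (hx : IsNat x) :
    K ⟶ (und J).obj F :=
  ⟨{ app := fun V => TypeCat.ofHom fun t => x V t
     naturality := fun V W g => ConcreteCategory.hom_ext _ _ fun t => hx g t }⟩

/-- A morphism of sheaves of sets as a natural family. -/
def famHom {K : Sh J} {F : Sheaf J AddCommGrpCat.{u}} (h : K ⟶ (und J).obj F) : Fam K.obj F.obj :=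
  fun V t => h.hom.app V t

theorem isNat_famHom {K : Sh J} {F : Sheaf J AddCommGrpCat.{u}} (h : K ⟶ (und J).obj F) : IsNat (famHom h) :=
  fun {V W} g t => NatTrans.naturality_apply h.hom g t

instance und_preservesColimitsOfShape {Λ : Type u} [SmallCategory Λ] [IsFiltered Λ] :
    PreservesColimitsOfShape Λ (und J) := by
  refine ⟨fun {D} => ?_⟩
  let a := presheafToSheaf J AddCommGrpCat.{u}
  let D' := D ⋙ sheafToPresheaf J AddCommGrpCat.{u}
  let e : D' ⋙ a ≅ D := Functor.associator _ _ _ ≪≫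
    Functor.isoWhiskerLeft D (asIso (sheafificationAdjunction J AddCommGrpCat.{u}).counit) ≪≫ D.rightUnitor
  haveI : PreservesColimitsOfShape Λ (a ⋙ und J) := preservesColimitsOfShape_of_natIso
    (sheafComposeNatIso J (forget AddCommGrpCat.{u}) (sheafificationAdjunction J AddCommGrpCat.{u})
      (sheafificationAdjunction J (Type u)))
  haveI : PreservesColimit (D' ⋙ a) (und J) :=
    preservesColimit_of_preserves_colimit_cocone (isColimitOfPreserves a (colimit.isColimit D'))
      (isColimitOfPreserves (a ⋙ und J) (colimit.isColimit D'))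
  exact preservesColimit_of_iso_diagram _ e

variable {Λ : Type u} [SmallCategory Λ] [IsFiltered Λ] {D : Λ ⥤ Sheaf J AddCommGrpCat.{u}}
  {c : Cocone D} (hc : IsColimit c)

include hc in
theorem exists_map_eq_zero {K : Sh J} (hK : IsQC K) (j : Λ) (y : Fam K.obj (D.obj j).obj) (hy : IsNat y)
    (h : mapFam (c.ι.app j).hom y = 0) :
    ∃ (k : Λ) (f : j ⟶ k), mapFam (D.map f).hom y = 0 := by
  let E := isColimitOfPreserves (und J) hc
  let e := E.coconePointUniqueUpToIso (colimit.isColimit (D ⋙ und J))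
  have he : ∀ i, (und J).map (c.ι.app i) ≫ e.hom = colimit.ι (D ⋙ und J) i := fun i =>
    E.comp_coconePointUniqueUpToIso_hom _ i
  have h₁ : secHom y hy ≫ (und J).map (c.ι.app j) = secHom 0 isNat_zero ≫ (und J).map (c.ι.app j) := by
    refine Sheaf.hom_ext (NatTrans.ext (funext fun V => ConcreteCategory.hom_ext _ _ fun t => ?_))
    exact (congrFun (congrFun h V) t).trans (map_zero ((c.ι.app j).hom.app V).hom).symm
  obtain ⟨k, f, hf⟩ := hom_ext_colimit_of_isQC hK (D ⋙ und J) (secHom y hy) (secHom 0 isNat_zero)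
    (by rw [← he j, ← Category.assoc, ← Category.assoc, h₁])
  refine ⟨k, f, funext fun V => funext fun t => ?_⟩
  exact (congr($(hf).hom.app V t)).trans (map_zero ((D.map f).hom.app V).hom)

include hc in
theorem exists_rep {K : Sh J} (hK : ∀ (D' : Λ ⥤ Sh J) (h : K ⟶ colimit D'), ∃ (i : Λ) (a : K ⟶ D'.obj i), a ≫ colimit.ι D' i = h)
    (x : Fam K.obj c.pt.obj) (hx : IsNat x) :
    ∃ (j : Λ) (y : Fam K.obj (D.obj j).obj), IsNat y ∧ mapFam (c.ι.app j).hom y = x := by
  let E := isColimitOfPreserves (und J) hc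
  let e := E.coconePointUniqueUpToIso (colimit.isColimit (D ⋙ und J))
  have he : ∀ i, (und J).map (c.ι.app i) ≫ e.hom = colimit.ι (D ⋙ und J) i := fun i =>
    E.comp_coconePointUniqueUpToIso_hom _ i
  obtain ⟨i, a, ha⟩ := hK (D ⋙ und J) (secHom x hx ≫ e.hom)
  rw [← he i, ← Category.assoc, cancel_mono] at ha
  refine ⟨i, famHom a, isNat_famHom a, funext fun V => funext fun t => ?_⟩
  exact congr($(ha).hom.app V t)

/-- A presheaf of sets decomposed in finitely many members of `S`. -/
def Dec (S : Set (Sh J)) (T : Cᵒᵖ ⥤ Type u) : Prop :=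
  ∃ (κ : Type u) (_ : Finite κ) (W : κ → Sh J) (j : ∀ k, (W k).obj ⟶ T), (∀ k, W k ∈ S) ∧
    ∀ V, Function.Bijective fun p : Σ k, (W k).obj.obj V => (j p.1).app V p.2

theorem exists_glue_of_bijective {T : Cᵒᵖ ⥤ Type u} {κ : Type u} {W : κ → Cᵒᵖ ⥤ Type u} {j : ∀ k, W k ⟶ T}
    (hj : ∀ V, Function.Bijective fun p : Σ k, (W k).obj V => (j p.1).app V p.2)
    {P : Cᵒᵖ ⥤ AddCommGrpCat.{u}} (s : ∀ k, Fam (W k) P) (hs : ∀ k, IsNat (s k)) :
    ∃ x : Fam T P, IsNat x ∧ ∀ k, comapFam (j k) x = s k := by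
  let inv : ∀ V, T.obj V → Σ k, (W k).obj V := fun V t => Classical.choose ((hj V).2 t)
  have hinv : ∀ V t, (j (inv V t).1).app V (inv V t).2 = t := fun V t => Classical.choose_spec ((hj V).2 t)
  have hinv' : ∀ V (p : Σ k, (W k).obj V), inv V ((j p.1).app V p.2) = p := fun V p => (hj V).1 (hinv V _)
  let F : ∀ V, (Σ k, (W k).obj V) → P.obj V := fun V p => s p.1 V p.2
  refine ⟨fun V t => F V (inv V t), fun {V V'} g t => ?_, fun k => funext fun V => funext fun w => ?_⟩
  · have : inv V' (T.map g t) = ⟨(inv V t).1, (W (inv V t).1).map g (inv V t).2⟩ := by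
      refine (hj V').1 ((hinv V' _).trans ?_)
      exact ((NatTrans.naturality_apply (j (inv V t).1) g (inv V t).2).trans (congrArg (T.map g) (hinv V t))).symm
    exact (congrArg (F V') this).trans (hs _ g _)
  · exact congrArg (F V) (hinv' V ⟨k, w⟩)

theorem ext_of_bijective {T : Cᵒᵖ ⥤ Type u} {κ : Type u} {W : κ → Cᵒᵖ ⥤ Type u} {j : ∀ k, W k ⟶ T}
    (hj : ∀ V, Function.Bijective fun p : Σ k, (W k).obj V => (j p.1).app V p.2)
    {P : Cᵒᵖ ⥤ AddCommGrpCat.{u}} {x y : Fam T P} (h : ∀ k, comapFam (j k) x = comapFam (j k) y) : x = y :=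
  funext fun V => funext fun t => by
    obtain ⟨⟨k, w⟩, rfl⟩ := (hj V).2 t
    exact congrFun (congrFun (h k) V) w

section Tup

variable {ι : Type u} [Finite ι] {L : ι → Sh J} {K : Sh J} (π : ∀ i, L i ⟶ K)

/-- The presheaves of tuples attached to a family of morphisms of sheaves. -/
abbrev TS (n : ℕ) : Cᵒᵖ ⥤ Type u := TT (fun i => (π i).hom) n

variable {S : Set (Sh J)} (hpb : ClosedUnderPullbacks S) (hK : K ∈ S) (hL : ∀ i, L i ∈ S)

include hL in
theorem dec_zero : Dec S (TS π 0) := by
  refine ⟨ι, inferInstance, L,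
    fun i => { app := fun V => TypeCat.ofHom fun y => ⟨fun _ => ⟨i, y⟩, fun _ _ => rfl⟩
               naturality := fun V W g => rfl }, hL, fun V => ⟨fun p q h => ?_, fun t => ?_⟩⟩
  · exact congrFun (congrArg Subtype.val h) 0
  · refine ⟨t.1 0, Subtype.ext (funext fun k => ?_)⟩
    rw [show k = 0 from Subsingleton.elim (α := Fin 1) k 0]
    rfl

include hpb hK hL in
theorem dec_succ {n : ℕ} (h : Dec S (TS π n)) : Dec S (TS π (n + 1)) := by
  obtain ⟨κ, hκ, W, j, hW, hj⟩ := h
  let a : ∀ k, W k ⟶ K := fun k => ⟨j k ≫ Taug n⟩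
  choose P p q hP sq using fun x : κ × ι => hpb (π x.2) (a x.1) (hL x.2) (hW x.1) hK
  have sqV : ∀ x V, IsPullback ((p x).hom.app V) ((q x).hom.app V) ((π x.2).hom.app V) ((a x.1).hom.app V) :=
    fun x V => (sq x).map (sheafToPresheaf J (Type u) ⋙ (evaluation Cᵒᵖ (Type u)).obj V)
  have hpr : ∀ (x : κ × ι) V (w : (P x).obj.obj V) (l : Fin (n + 2)),
      pr (fun i => (π i).hom) (Fin.cons (α := fun _ => Σ i, (L i).obj.obj V) ⟨x.2, (p x).hom.app V w⟩
        ((j x.1).app V ((q x).hom.app V w)).1 l) = (π x.2).hom.app V ((p x).hom.app V w) := by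
    intro x V w l
    refine Fin.cases ?_ (fun i => ?_) l
    · rw [Fin.cons_zero]; rfl
    · rw [Fin.cons_succ]
      exact (((j x.1).app V ((q x).hom.app V w)).2 i 0).trans
        (congr($((sq x).w).hom.app V w)).symm
  refine ⟨κ × ι, inferInstance, P,
    fun x => { app := fun V => TypeCat.ofHom fun w =>
                 ⟨Fin.cons (α := fun _ => Σ i, (L i).obj.obj V) ⟨x.2, (p x).hom.app V w⟩
                    ((j x.1).app V ((q x).hom.app V w)).1, fun l m => (hpr x V w l).trans (hpr x V w m).symm⟩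
               naturality := fun V V' g => ?_ }, hP, fun V => ⟨?_, ?_⟩⟩
  · refine ConcreteCategory.hom_ext _ _ fun w => Subtype.ext (funext fun l => ?_)
    refine Fin.cases ?_ (fun i => ?_) l
    · exact congrArg (Sigma.mk x.2) (NatTrans.naturality_apply (p x).hom g w)
    · have h₁ := (congrArg ((j x.1).app V') (NatTrans.naturality_apply (q x).hom g w)).trans
        (NatTrans.naturality_apply (j x.1) g ((q x).hom.app V w))
      exact congrFun (congrArg Subtype.val h₁) i
  · rintro ⟨⟨k, i⟩, w⟩ ⟨⟨k', i'⟩, w'⟩ e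
    have e₀ := congrFun (congrArg Subtype.val e) 0
    have e₁ : (j k).app V ((q (k, i)).hom.app V w) = (j k').app V ((q (k', i')).hom.app V w') :=
      Subtype.ext (funext fun l => congrFun (congrArg Subtype.val e) l.succ)
    have e₁' : (⟨k, (q (k, i)).hom.app V w⟩ : Σ k, (W k).obj.obj V) = ⟨k', (q (k', i')).hom.app V w'⟩ :=
      (hj V).1 e₁
    obtain ⟨rfl, h₀⟩ := Sigma.mk.inj e₀
    obtain ⟨rfl, h₁⟩ := Sigma.mk.inj e₁'
    exact congrArg (Sigma.mk _) (Types.ext_of_isPullback (sqV (k, i) V) (eq_of_heq h₀) (eq_of_heq h₁))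
  · intro t
    obtain ⟨⟨k, w₀⟩, hw₀⟩ := (hj V).2 (Tup.face 0 t)
    obtain ⟨w, hp, hq⟩ := Types.exists_of_isPullback (sqV (k, (t.1 0).1) V) (t.1 0).2 w₀
      ((t.2 0 ((0 : Fin (n + 2)).succAbove 0)).trans
        (congrArg (fun s : Tup (fun i => (π i).hom) n V => pr (fun i => (π i).hom) (s.1 0)) hw₀).symm)
    refine ⟨⟨(k, (t.1 0).1), w⟩, Subtype.ext (funext fun l => ?_)⟩
    refine Fin.cases ?_ (fun i => ?_) l
    · exact congrArg (Sigma.mk _) hp
    · exact congrFun (congrArg Subtype.val ((congrArg ((j k).app V) hq).trans hw₀)) i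

include hpb hK hL in
theorem dec_TS (n : ℕ) : Dec S (TS π n) := by
  induction n with
  | zero => exact dec_zero π hL
  | succ n ih => exact dec_succ π hpb hK hL ih

/-- Cocycles of degree `0` glue. -/
theorem exists_glue (hπ : Covers π) {F : Sheaf J AddCommGrpCat.{u}} (z : Fam (TS π 0) F.obj) (hz : IsNat z)
    (hd : d z = 0) : ∃ b : Fam K.obj F.obj, IsNat b ∧ comapFam (Taug 0) b = z := by
  let one : ∀ i V, (L i).obj.obj V → Tup (fun i => (π i).hom) 0 V := fun i V y =>
    ⟨fun _ => ⟨i, y⟩, fun _ _ => rfl⟩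
  let φ : ∀ i, L i ⟶ (und J).obj F := fun i =>
    secHom (fun V y => z V (one i V y)) fun {V W} g y => hz g (one i V y)
  obtain ⟨b, hb⟩ := exists_desc hπ φ fun i i' => Sheaf.hom_ext (NatTrans.ext (funext fun V =>
    ConcreteCategory.hom_ext _ _ fun w => by
      let y := (pullback.fst (π i) (π i')).hom.app V w
      let y' := (pullback.snd (π i) (π i')).hom.app V w
      have hyy : (π i).hom.app V y = (π i').hom.app V y' :=
        congr($(pullback.condition (f := π i) (g := π i')).hom.app V w)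
      let t : Tup (fun i => (π i).hom) 1 V := ⟨![⟨i, y⟩, ⟨i', y'⟩], fun l m => by
        fin_cases l <;> fin_cases m <;> first | rfl | exact hyy | exact hyy.symm⟩
      have := sub_eq_zero.1 ((d_zero_apply z V t).symm.trans (congrFun (congrFun hd V) t))
      show z V (one i V y) = z V (one i' V y')
      refine Eq.trans ?_ (this.symm.trans ?_)
      · exact congrArg (z V) (Subtype.ext (funext fun l => by fin_cases l; rfl))
      · exact congrArg (z V) (Subtype.ext (funext fun l => by fin_cases l; rfl))))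
  refine ⟨famHom b, isNat_famHom b, funext fun V => funext fun t => ?_⟩
  refine (congr($(hb (t.1 0).1).hom.app V (t.1 0).2)).trans (congrArg (z V) (Subtype.ext (funext fun l => ?_)))
  rw [show l = 0 from Subsingleton.elim (α := Fin 1) l 0]

omit [Finite ι] in
/-- Sections are determined by their restrictions to a covering family. -/
theorem ext_of_covers (hπ : Covers π) {F : Sheaf J AddCommGrpCat.{u}} {b b' : Fam K.obj F.obj} (hb : IsNat b)
    (hb' : IsNat b') (h : comapFam (Taug (π := fun i => (π i).hom) 0) b = comapFam (Taug 0) b') : b = b' := by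
  have e : secHom b hb = secHom b' hb' := hπ _ _ _ fun i => Sheaf.hom_ext (NatTrans.ext (funext fun V =>
    ConcreteCategory.hom_ext _ _ fun y =>
      congrFun (congrFun h V) (⟨fun _ => ⟨i, y⟩, fun _ _ => rfl⟩ : Tup (fun i => (π i).hom) 0 V)))
  exact funext fun V => funext fun t => congr($(e).hom.app V t)

end Tup

end Groth.L09.CohColim
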