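import Groth.Agent.L09.CohColim.Functors
import Groth.Agent.L09.ToposEps
import Groth.Agent.L10.SiteRightDerived
import Groth.Prelude.Def_CohCx

/-!
Cohomology on a collection of objects of a site with finite coverings commutes with filtered colimits.
-/

set_option autoImplicit false
set_option linter.style.haveILetI false
universe u

open CategoryTheory CategoryTheory.Limits Opposite ToposFin Groth.L09.Topos
open Groth.L10.SiteCoh (fs freeSheafifyIso)

namespace Groth.L09.CohColim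

variable {C : Type u} [SmallCategory C] [HasPullbacks C] {J : GrothendieckTopology C}

/-- Admissible: the fibre powers decompose into members of `S`. -/
def decAdm (S : Set (Sh J)) : Adm J := fun K ι L π =>
  (K ∈ S ∧ Finite ι ∧ (∀ i, L i ∈ S) ∧ Covers π) ∧ ∀ n, Dec S (TS π n)

variable {U : C} {ι : Type u} (Y : ι → Over U)

/-- The product of a tuple of members. -/
noncomputable abbrev PY {n : ℕ} (a : Fin (n + 1) → ι) : C := (∏ᶜ fun l => Y (a l)).left

/-- Its projections. -/
noncomputable abbrev prY {n : ℕ} (a : Fin (n + 1) → ι) (l : Fin (n + 1)) : PY Y a ⟶ (Y (a l)).left :=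
  (Pi.π (fun l => Y (a l)) l).left

theorem prY_hom {n : ℕ} (a : Fin (n + 1) → ι) (l : Fin (n + 1)) :
    prY Y a l ≫ (Y (a l)).hom = (∏ᶜ fun l => Y (a l)).hom := Over.w _

theorem PY_hom_ext {n : ℕ} (a : Fin (n + 1) → ι) {T : C} {f g : T ⟶ PY Y a}
    (h : ∀ l, f ≫ prY Y a l = g ≫ prY Y a l) : f = g := by
  have hf : f ≫ (∏ᶜ fun l => Y (a l)).hom = g ≫ (∏ᶜ fun l => Y (a l)).hom := by
    rw [← prY_hom Y a 0, reassoc_of% (h 0)]
  let f' : Over.mk (g ≫ (∏ᶜ fun l => Y (a l)).hom) ⟶ ∏ᶜ fun l => Y (a l) := Over.homMk f hf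
  let g' : Over.mk (g ≫ (∏ᶜ fun l => Y (a l)).hom) ⟶ ∏ᶜ fun l => Y (a l) := Over.homMk g rfl
  have : f' = g' := Pi.hom_ext _ _ fun l => Over.OverMorphism.ext (by simpa [f', g', prY] using h l)
  exact congrArg CommaMorphism.left this

/-- Dropping the first entry. -/
noncomputable def dropY {n : ℕ} (a : Fin (n + 2) → ι) : PY Y a ⟶ PY Y (fun l : Fin (n + 1) => a l.succ) :=
  (Pi.lift fun l => Pi.π (fun l => Y (a l)) l.succ : (∏ᶜ fun l => Y (a l)) ⟶ ∏ᶜ fun l : Fin (n + 1) => Y (a l.succ)).left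

theorem dropY_prY {n : ℕ} (a : Fin (n + 2) → ι) (l : Fin (n + 1)) :
    dropY Y a ≫ prY Y (fun l : Fin (n + 1) => a l.succ) l = prY Y a l.succ := by
  rw [dropY, prY, ← Over.comp_left, Pi.lift_π]

theorem isPullback_PY {n : ℕ} (a : Fin (n + 2) → ι) :
    IsPullback (prY Y a 0) (dropY Y a) (Y (a 0)).hom (∏ᶜ fun l : Fin (n + 1) => Y (a l.succ)).hom := by
  refine IsPullback.of_isLimit' ⟨?_⟩ (PullbackCone.IsLimit.mk _
    (fun s => (Pi.lift (fun l : Fin (n + 2) => Fin.cases (motive := fun l => Over.mk (s.fst ≫ (Y (a 0)).hom) ⟶ Y (a l))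
      (Over.homMk s.fst rfl) (fun l => Over.homMk (s.snd ≫ prY Y (fun l : Fin (n + 1) => a l.succ) l)
        (by
          show (s.snd ≫ prY Y (fun l : Fin (n + 1) => a l.succ) l) ≫ (Y (a l.succ)).hom = s.fst ≫ (Y (a 0)).hom
          rw [Category.assoc, prY_hom, ← s.condition]) ) l)).left)
    (fun s => ?_) (fun s => ?_) fun s m h₁ h₂ => ?_)
  · rw [prY_hom, ← prY_hom Y (fun l : Fin (n + 1) => a l.succ) 0, ← Category.assoc, dropY_prY]
    exact (prY_hom Y a _).symm
  · rw [prY, ← Over.comp_left, Pi.lift_π]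
    rfl
  · refine PY_hom_ext Y (fun l : Fin (n + 1) => a l.succ) fun l => ?_
    rw [Category.assoc, dropY_prY, prY, ← Over.comp_left, Pi.lift_π]
    rfl
  · refine PY_hom_ext Y a fun l => ?_
    refine Fin.cases ?_ (fun l => ?_) l
    · rw [h₁, prY, ← Over.comp_left, Pi.lift_π]
      rfl
    · rw [← dropY_prY, reassoc_of% h₂, dropY_prY, prY, prY, ← Over.comp_left, Pi.lift_π]
      rfl

variable (J) in
/-- The family of sheaf morphisms attached to the members. -/
noncomputable abbrev famY : ∀ i, eps J (Y i).left ⟶ eps J U := fun i => epsMap J (Y i).hom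

/-- The tuple attached to an element of a product. -/
noncomputable def tupY {n : ℕ} (a : Fin (n + 1) → ι) {V : Cᵒᵖ} (w : (eps J (PY Y a)).obj.obj V) :
    Tup (fun i => (famY J Y i).hom) n V :=
  ⟨fun l => ⟨a l, (epsMap J (prY Y a l)).hom.app V w⟩, fun k l => by
    have e : ∀ l, (famY J Y (a l)).hom.app V ((epsMap J (prY Y a l)).hom.app V w) =
        (epsMap J (∏ᶜ fun l => Y (a l)).hom).hom.app V w := fun l => by
      rw [← prY_hom Y a l, epsMap_comp]
      rfl
    exact (e k).trans (e l).symm⟩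

theorem tupY_bijective (n : ℕ) (V : Cᵒᵖ) :
    Function.Bijective fun p : Σ a : Fin (n + 1) → ι, (eps J (PY Y a)).obj.obj V => tupY Y p.1 p.2 := by
  induction n with
  | zero =>
    have hiso : ∀ a : Fin 1 → ι, IsIso (prY Y a 0) := fun a => by
      have : IsIso (Pi.π (fun l => Y (a l)) 0) :=
        ⟨Pi.lift (fun l => eqToHom (by rw [Subsingleton.elim l 0])),
          Pi.hom_ext _ _ fun l => by rw [Subsingleton.elim l 0]; simp, by simp⟩
      exact inferInstanceAs (IsIso ((Over.forget U).map (Pi.π (fun l => Y (a l)) 0)))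
    constructor
    · rintro ⟨a, w⟩ ⟨a', w'⟩ e
      have e' := congrFun (congrArg Subtype.val e) 0
      obtain ⟨h₁, h₂⟩ := Sigma.mk.inj e'
      obtain rfl : a = a' := funext fun l => by rw [Subsingleton.elim (α := Fin 1) l 0]; exact h₁
      haveI := hiso a
      refine congrArg (Sigma.mk a) (((isIso_iff_bijective _).1
        (inferInstance : IsIso ((epsMap J (prY Y a 0)).hom.app V))).1 (eq_of_heq h₂))
    · rintro ⟨f, hf⟩
      let a : Fin 1 → ι := fun _ => (f 0).1
      haveI := hiso a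
      obtain ⟨w, hw⟩ := ((isIso_iff_bijective _).1
        (inferInstance : IsIso ((epsMap J (prY Y a 0)).hom.app V))).2 (f 0).2
      refine ⟨⟨a, w⟩, Subtype.ext (funext fun l => ?_)⟩
      rw [show l = 0 from Subsingleton.elim (α := Fin 1) l 0]
      exact congrArg (Sigma.mk (f 0).1) hw
  | succ n ih =>
    have sqV : ∀ a : Fin (n + 2) → ι, IsPullback ((epsMap J (prY Y a 0)).hom.app V)
        ((epsMap J (dropY Y a)).hom.app V) ((epsMap J (Y (a 0)).hom).hom.app V)
        ((epsMap J (∏ᶜ fun l : Fin (n + 1) => Y (a l.succ)).hom).hom.app V) := fun a =>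
      (((isPullback_PY Y a).map yoneda).map (presheafToSheaf J (Type u))).map
        (sheafToPresheaf J (Type u) ⋙ (evaluation Cᵒᵖ (Type u)).obj V)
    have htail : ∀ (a : Fin (n + 2) → ι) (w : (eps J (PY Y a)).obj.obj V) (l : Fin (n + 1)),
        (tupY Y (fun l : Fin (n + 1) => a l.succ) ((epsMap J (dropY Y a)).hom.app V w)).1 l = (tupY Y a w).1 l.succ := fun a w l => by
      refine congrArg (Sigma.mk (a l.succ)) ?_
      rw [← dropY_prY, epsMap_comp]
      rfl
    constructor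
    · rintro ⟨a, w⟩ ⟨a', w'⟩ e
      obtain rfl : a = a' := funext fun l => congrArg Sigma.fst (congrFun (congrArg Subtype.val e) l)
      refine congrArg (Sigma.mk a) (Types.ext_of_isPullback (sqV a)
        (eq_of_heq (Sigma.mk.inj (congrFun (congrArg Subtype.val e) 0)).2) ?_)
      have : (⟨fun l : Fin (n + 1) => a l.succ, (epsMap J (dropY Y a)).hom.app V w⟩ : Σ a : Fin (n + 1) → ι, (eps J (PY Y a)).obj.obj V) =
          ⟨fun l : Fin (n + 1) => a l.succ, (epsMap J (dropY Y a)).hom.app V w'⟩ := ih.1 (Subtype.ext (funext fun l =>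
            (htail a w l).trans ((congrFun (congrArg Subtype.val e) l.succ).trans (htail a w' l).symm)))
      exact eq_of_heq (Sigma.mk.inj this).2
    · intro t
      obtain ⟨⟨a₀, w₀⟩, hw₀⟩ := ih.2 (Tup.face 0 t)
      let a : Fin (n + 2) → ι := Fin.cons (t.1 0).1 a₀
      have hlow : (famY J Y (t.1 0).1).hom.app V (t.1 0).2 =
          (epsMap J (∏ᶜ fun l => Y (a₀ l)).hom).hom.app V w₀ := by
        refine (t.2 0 ((0 : Fin (n + 2)).succAbove 0)).trans ?_
        refine (congrArg (fun s : Tup (fun i => (famY J Y i).hom) n V => pr (fun i => (famY J Y i).hom) (s.1 0)) hw₀).symm.trans ?_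
        show (famY J Y (a₀ 0)).hom.app V ((epsMap J (prY Y a₀ 0)).hom.app V w₀) = _
        rw [← prY_hom Y a₀ 0, epsMap_comp]
        rfl
      obtain ⟨w, hp, hq⟩ := Types.exists_of_isPullback (sqV a) (t.1 0).2 w₀ hlow
      refine ⟨⟨a, w⟩, Subtype.ext (funext fun l => ?_)⟩
      refine Fin.cases ?_ (fun l => ?_) l
      · exact congrArg (Sigma.mk (t.1 0).1) hp
      · refine (htail a w l).symm.trans ?_
        exact (congrArg (fun x => (tupY Y (fun l : Fin (n + 1) => a l.succ) x).1 l) hq).trans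
          (congrFun (congrArg Subtype.val hw₀) l)

theorem dec_famY [Finite ι] (S : Set (Sh J)) (hS : ∀ (n : ℕ) (a : Fin (n + 1) → ι), eps J (PY Y a) ∈ S) (n : ℕ) :
    Dec S (TS (famY J Y) n) :=
  ⟨Fin (n + 1) → ι, inferInstance, fun a => eps J (PY Y a), fun a =>
    { app := fun V => TypeCat.ofHom fun w => tupY Y a w
      naturality := fun V V' g => ConcreteCategory.hom_ext _ _ fun w => Subtype.ext (funext fun l =>
        congrArg (Sigma.mk (a l)) (NatTrans.naturality_apply (epsMap J (prY Y a l)).hom g w)) },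
    hS n, tupY_bijective Y n⟩

theorem preservesColimitsOfShape_of_collection
    (B : Set C) (Cov : ∀ (U : C) (ι : Type u), (ι → Over U) → Prop)
    (h1 : ∀ (U : C) (ι : Type u) (Y : ι → Over U), Cov U ι Y → Finite ι ∧ U ∈ B ∧
      Sieve.ofArrows (fun i => (Y i).left) (fun i => (Y i).hom) ∈ J U ∧
      ∀ (p : ℕ) (a : Fin (p + 1) → ι), (∏ᶜ fun k => Y (a k)).left ∈ B)
    (h2 : ∀ U ∈ B, ∀ T ∈ J U, ∃ (ι : Type u) (Y : ι → Over U), Cov U ι Y ∧ ∀ i, T.arrows (Y i).hom)
    {U : C} (hU : U ∈ B) (p : ℕ) (Λ : Type u) [SmallCategory Λ] [IsFiltered Λ] :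
    PreservesColimitsOfShape Λ ((Sheaf.cohomologyPresheafFunctor J p).flip.obj (op U)) := by
  let S : Set (Sh J) := {K | ∃ U ∈ B, Nonempty (K ≅ eps J U)}
  have hqc : ∀ U ∈ B, IsQC (eps J U) := fun U hU => (isQCSite_iff U).1 fun T hT => by
    obtain ⟨ι, Y, hY, hT'⟩ := h2 U hU T hT
    obtain ⟨hι, -, hcov, -⟩ := h1 U ι Y hY
    haveI := Fintype.ofFinite ι
    let e := Fintype.equivFin ι
    refine ⟨_, fun k => (Y (e.symm k)).left, fun k => (Y (e.symm k)).hom, fun k => hT' _, J.superset_covering ?_ hcov⟩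
    intro W f hf
    obtain ⟨_, l, _, ⟨i⟩, rfl⟩ := hf
    refine (Sieve.mem_ofArrows_iff _ _ _).2 ?_
    obtain ⟨k, rfl⟩ := e.symm.surjective i
    exact ⟨k, l, rfl⟩
  have hG : Good S (decAdm S) := by
    refine ⟨fun K hK => ?_, fun h => h.1, fun h => h.2, fun K hK F g hg => ?_⟩
    · obtain ⟨U, hU, ⟨e⟩⟩ := hK
      exact isQC_of_iso e.symm (hqc U hU)
    · obtain ⟨U, hU, ⟨e⟩⟩ := hK
      haveI := hg
      obtain ⟨ι, Y, hY, hT⟩ := h2 U hU _ (liftSieve_mem (covers_of_epi.{u} (g ≫ e.hom)))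
      obtain ⟨hι, -, hcov, hB⟩ := h1 U ι Y hY
      choose i l hl using hT
      refine ⟨ι, fun i => eps J (Y i).left, fun i => famY J Y i ≫ e.inv,
        ⟨⟨⟨U, hU, ⟨e⟩⟩, hι, fun i => ?_, covers_comp_iso (covers_ofArrows _ hcov) e.symm⟩, fun n => ?_⟩,
        fun k => ⟨l k, by rw [← cancel_mono e.hom, Category.assoc, hl k]; simp⟩⟩
      · haveI : IsIso (prY Y (fun _ : Fin 1 => i) 0) := by
          have : IsIso (Pi.π (fun _ : Fin 1 => Y i) 0) :=
            ⟨Pi.lift (fun _ => 𝟙 _), Pi.hom_ext _ _ fun l => by rw [Subsingleton.elim l 0]; simp, by simp⟩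
          exact inferInstanceAs (IsIso ((Over.forget U).map (Pi.π (fun _ : Fin 1 => Y i) 0)))
        exact ⟨_, hB 0 (fun _ => i), ⟨(asIso (epsMap J (prY Y (fun _ : Fin 1 => i) 0))).symm⟩⟩
      · have hS : ∀ (n : ℕ) (a : Fin (n + 1) → ι), eps J (PY Y a) ∈ S :=
          fun n a => ⟨_, hB n a, ⟨Iso.refl _⟩⟩
        obtain ⟨κ, hκ, W, j, hW, hj⟩ := dec_famY (J := J) Y S hS n
        have hpr : ∀ V (x y : Σ i, (eps J (Y i).left).obj.obj V),
            pr (fun i => (famY J Y i).hom) x = pr (fun i => (famY J Y i).hom) y →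
              pr (fun i => (famY J Y i ≫ e.inv).hom) x = pr (fun i => (famY J Y i ≫ e.inv).hom) y :=
          fun V x y h => congrArg (e.inv.hom.app V) h
        have hpr' : ∀ V (x y : Σ i, (eps J (Y i).left).obj.obj V),
            pr (fun i => (famY J Y i ≫ e.inv).hom) x = pr (fun i => (famY J Y i ≫ e.inv).hom) y →
              pr (fun i => (famY J Y i).hom) x = pr (fun i => (famY J Y i).hom) y :=
          fun V x y h => ((isIso_iff_bijective (e.inv.hom.app V)).1 inferInstance).1 h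
        refine ⟨κ, hκ, W, fun k => j k ≫
          { app := fun V => TypeCat.ofHom fun t => ⟨t.1, fun a b => hpr V _ _ (t.2 a b)⟩
            naturality := fun V V' g => rfl }, hW, fun V => ?_⟩
        constructor
        · intro p q h
          exact (hj V).1 (Subtype.ext (congrArg Subtype.val h :))
        · intro t
          obtain ⟨p, hp⟩ := (hj V).2 ⟨t.1, fun a b => hpr' V _ _ (t.2 a b)⟩
          exact ⟨p, Subtype.ext (congrArg Subtype.val hp :)⟩
  exact (preservesColimitsOfShape_of_commutes (Λ := Λ) (fs J U) p fun D c hc =>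
    (commutes hG ⟨U, hU, ⟨Iso.refl _⟩⟩ p D c hc).of_iso (freeSheafifyIso (yoneda.obj U)) :)

end Groth.L09.CohColim
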